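import Groth.Agent.FormCat.Unibranch
import Groth.Agent.RegFS6.NormalLift
import Groth.Agent.CplFib6.GeomRedFormal
import Groth.Agent.Hensel.Local
import Groth.Agent.GrpSchLib.TensorDomain
import Mathlib.FieldTheory.IsAlgClosed.AlgebraicClosure

/-!
# Henselian rings with geometrically normal formal fibres
-/

set_option linter.style.haveILetI false

namespace Groth.Agent.FormCat

universe u

open IsLocalRing TensorProduct

/-- A finite domain over a henselian local ring is local. -/
theorem isLocalRing_of_finite_domain (R : Type u) [CommRing R] [HenselianLocalRing R] (S : Type u) [CommRing S]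
    [IsDomain S] [Algebra R S] [Module.Finite R S] : IsLocalRing S := by
  obtain ⟨_, e, he, hM⟩ := Hensel.exists_idempotents_of_henselian R S
  obtain ⟨M, hMmax⟩ := Ideal.exists_maximal S
  refine IsLocalRing.of_unique_max_ideal ⟨M, hMmax, fun M' hM' => ?_⟩
  by_contra hne
  let s : MaximalSpectrum S := ⟨M, hMmax⟩
  let s' : MaximalSpectrum S := ⟨M', hM'⟩
  obtain ⟨h1, h2⟩ := hM s
  rcases IsIdempotentElem.iff_eq_zero_or_one.mp (he.idem s) with h | h
  · exact h1 (h ▸ M.zero_mem)
  · exact hM'.ne_top ((Ideal.eq_top_iff_one M').mpr (h ▸ h2 s' fun h' => hne (congrArg MaximalSpectrum.asIdeal h')))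

/-- The completed base change to the fraction field of a finite domain. -/
theorem isDomain_tensor_fractionRing (A : Type u) [CommRing A] [IsNoetherianRing A] [HenselianLocalRing A]
    (hA : EGA4.HasGeomNormalFormalFibres A) (C : Type u) [CommRing C] [IsDomain C] [Algebra A C] [Module.Finite A C] :
    IsDomain (EGA4.Cpl A ⊗[A] FractionRing C) := by
  haveI := isLocalRing_of_finite_domain A C
  haveI : IsNoetherianRing C := Algebra.FiniteType.isNoetherianRing A C
  let K := FractionRing C
  let R' := integralClosure C K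
  have hred : EGA4.HasGeomReducedFormalFibres A := fun p _ => FlatLoc6.geomReduced_of_isGeomNormal (hA p)
  have hredC := CplFib6.hasGeomReducedFormalFibres_of_essFiniteType A hred C
  haveI : Module.Finite C R' := CompleteNagata.isN2_of_geomReduced C hredC K inferInstance
  haveI : Module.Finite A R' := Module.Finite.trans C R'
  haveI : IsFractionRing R' K := integralClosure.isFractionRing_of_finite_extension K K
  haveI : IsIntegrallyClosed R' := integralClosure.isIntegrallyClosedOfFiniteExtension K
  haveI := isLocalRing_of_finite_domain A R'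
  have hnorm : EGA4.IsNormalRing R' := fun p _ =>
    ⟨IsLocalization.isDomain_localization p.primeCompl_le_nonZeroDivisors,
      isIntegrallyClosed_of_isLocalization _ p.primeCompl p.primeCompl_le_nonZeroDivisors⟩
  haveI := FlatLoc6.isLocalRing_cpl A
  haveI := FlatLoc6.isNoetherianRing_cpl A
  haveI := FlatLoc6.faithfullyFlat_cpl A
  haveI := isLocalRing_cpl_tensor A R'
  haveI hT : IsDomain (EGA4.Cpl A ⊗[A] R') :=
    isDomain_of_isNormalRing_local _ (S2670.result A (EGA4.Cpl A) ⟨inferInstance, hA⟩ R' hnorm)
  letI : Algebra (EGA4.Cpl A ⊗[A] R') (EGA4.Cpl A ⊗[A] K) :=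
    (Algebra.TensorProduct.map (AlgHom.id (EGA4.Cpl A) (EGA4.Cpl A)) (IsScalarTower.toAlgHom A R' K)).toRingHom.toAlgebra
  haveI : IsScalarTower (EGA4.Cpl A) (EGA4.Cpl A ⊗[A] R') (EGA4.Cpl A ⊗[A] K) := IsScalarTower.of_algebraMap_eq fun c => by
    show _ = Algebra.TensorProduct.map (AlgHom.id (EGA4.Cpl A) (EGA4.Cpl A)) (IsScalarTower.toAlgHom A R' K) (c ⊗ₜ 1)
    simp
  haveI := IsLocalization.tensorProduct_tensorProduct_right (A := R') A (EGA4.Cpl A) (nonZeroDivisors R') K
    (RingHom.ext fun x => by
      show Algebra.TensorProduct.map (AlgHom.id (EGA4.Cpl A) (EGA4.Cpl A)) (IsScalarTower.toAlgHom A R' K) (1 ⊗ₜ x) = _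
      simp)
  refine IsLocalization.isDomain_of_le_nonZeroDivisors (S := EGA4.Cpl A ⊗[A] K)
    (M := (nonZeroDivisors R').map (Algebra.TensorProduct.includeRight (R := A) (A := EGA4.Cpl A))) ?_
  rintro _ ⟨r, hr, rfl⟩
  refine mem_nonZeroDivisors_of_ne_zero ((map_ne_zero_iff _ ?_).mpr (nonZeroDivisors.ne_zero hr))
  exact Module.FaithfullyFlat.tensorProduct_mk_injective (A := A) (B := EGA4.Cpl A) R'

/-- A henselian domain with geometrically normal formal fibres is analytically irreducible. -/
theorem isDomain_cpl_of_henselian (A : Type u) [CommRing A] [IsNoetherianRing A] [HenselianLocalRing A] [IsDomain A]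
    (hA : EGA4.HasGeomNormalFormalFibres A) : IsDomain (EGA4.Cpl A) := by
  haveI := isDomain_tensor_fractionRing A hA A
  haveI := FlatLoc6.faithfullyFlat_cpl A
  refine Function.Injective.isDomain (f := algebraMap (EGA4.Cpl A) (EGA4.Cpl A ⊗[A] FractionRing A)) fun a b h => ?_
  have h1 := Module.Flat.lTensor_preserves_injective_linearMap (M := EGA4.Cpl A) (Algebra.linearMap A (FractionRing A))
    (IsFractionRing.injective A (FractionRing A))
  refine (TensorProduct.rid A (EGA4.Cpl A)).symm.injective (h1 ?_)
  simpa [Algebra.TensorProduct.algebraMap_apply] using h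

/-- The formal fibres stay domains over finite extensions. -/
theorem isDomain_formalFibre_finite (A : Type u) [CommRing A] [IsNoetherianRing A] [HenselianLocalRing A]
    (hA : EGA4.HasGeomNormalFormalFibres A) (p : Ideal A) [p.IsPrime] (L : Type u) [Field L] [Algebra p.ResidueField L]
    [Module.Finite p.ResidueField L] : IsDomain (L ⊗[p.ResidueField] EGA4.formalFibre A p) := by
  letI : Algebra A L := ((algebraMap p.ResidueField L).comp (algebraMap A p.ResidueField)).toAlgebra
  haveI : IsScalarTower A p.ResidueField L := IsScalarTower.of_algebraMap_eq' rfl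
  obtain ⟨C, hCfin, hCfr⟩ := RegFS6.exists_order_residue p L
  haveI := hCfin
  haveI := hCfr
  haveI := isDomain_tensor_fractionRing A hA C
  let f : FractionRing C ≃ₐ[A] L := (FractionRing.algEquiv C L).restrictScalars A
  let e : L ⊗[p.ResidueField] EGA4.formalFibre A p ≃+* EGA4.Cpl A ⊗[A] FractionRing C :=
    ((Algebra.TensorProduct.cancelBaseChange A p.ResidueField L L (EGA4.Cpl A)).toRingEquiv.trans
      (Algebra.TensorProduct.comm A L (EGA4.Cpl A)).toRingEquiv).trans
      (Algebra.TensorProduct.congr (AlgEquiv.refl (R := A) (A₁ := EGA4.Cpl A)) f.symm).toRingEquiv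
  exact e.toMulEquiv.isDomain

/-- An algebra which stays a domain over finite extensions stays one over every extension. -/
theorem isDomain_tensor_of_finite (k S : Type u) [Field k] [CommRing S] [Algebra k S]
    (h : ∀ (L : Type u) [Field L] [Algebra k L], Module.Finite k L → IsDomain (L ⊗[k] S))
    (K : Type u) [Field K] [Algebra k K] : IsDomain (K ⊗[k] S) := by
  classical
  let kb := AlgebraicClosure k
  haveI : IsDomain S := by
    haveI := h k inferInstance
    exact (Algebra.TensorProduct.lid k S).symm.toRingEquiv.toMulEquiv.isDomain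
  have hrange : ∀ z : kb ⊗[k] S, ∃ t : Finset kb, ∀ L : IntermediateField k kb, (↑t : Set kb) ⊆ L →
      z ∈ Set.range (Algebra.TensorProduct.map L.val (AlgHom.id k S)) := fun z => by
    induction z using TensorProduct.induction_on with
    | zero => exact ⟨∅, fun L _ => ⟨0, map_zero _⟩⟩
    | tmul a s => exact ⟨{a}, fun L hL => ⟨(⟨a, hL (by simp)⟩ : L) ⊗ₜ s, by simp⟩⟩
    | add x y hx hy =>
      obtain ⟨tx, hx⟩ := hx
      obtain ⟨ty, hy⟩ := hy
      refine ⟨tx ∪ ty, fun L hL => ?_⟩
      rw [Finset.coe_union, Set.union_subset_iff] at hL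
      obtain ⟨u, hu⟩ := hx L hL.1
      obtain ⟨v, hv⟩ := hy L hL.2
      exact ⟨u + v, by rw [map_add, hu, hv]⟩
  haveI : IsDomain (kb ⊗[k] S) := by
    haveI : Nontrivial (kb ⊗[k] S) := Algebra.TensorProduct.nontrivial_of_algebraMap_injective_of_flat_right k kb S
      (algebraMap k kb).injective
    haveI : NoZeroDivisors (kb ⊗[k] S) := ⟨fun {x y} hxy => by
      obtain ⟨tx, hx⟩ := hrange x
      obtain ⟨ty, hy⟩ := hrange y
      let L : IntermediateField k kb := IntermediateField.adjoin k (↑(tx ∪ ty) : Set kb)
      haveI : Module.Finite k L := IntermediateField.finiteDimensional_adjoin fun z _ => Algebra.IsIntegral.isIntegral z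
      haveI := h L inferInstance
      have hsub : (↑(tx ∪ ty) : Set kb) ⊆ L := IntermediateField.subset_adjoin _ _
      rw [Finset.coe_union, Set.union_subset_iff] at hsub
      obtain ⟨u, rfl⟩ := hx L hsub.1
      obtain ⟨v, rfl⟩ := hy L hsub.2
      have hinj : Function.Injective (Algebra.TensorProduct.map L.val (AlgHom.id k S)) :=
        Module.Flat.rTensor_preserves_injective_linearMap (M := S) L.val.toLinearMap Subtype.val_injective
      rw [← map_mul, map_eq_zero_iff _ hinj] at hxy
      exact (mul_eq_zero.mp hxy).imp (fun h => by rw [h, map_zero]) (fun h => by rw [h, map_zero])⟩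
    exact NoZeroDivisors.to_isDomain _
  let Ω := AlgebraicClosure K
  let ι : kb →ₐ[k] Ω := IsAlgClosed.lift
  letI : Algebra kb Ω := ι.toRingHom.toAlgebra
  haveI : IsScalarTower k kb Ω := IsScalarTower.of_algebraMap_eq fun x => (ι.commutes x).symm
  haveI := GrpSchLib.isDomain_tensor_of_isAlgClosed (K := kb) (A := Ω) (B := kb ⊗[k] S)
  haveI : IsDomain (Ω ⊗[k] S) := (Algebra.TensorProduct.cancelBaseChange k kb kb Ω S).symm.toRingEquiv.toMulEquiv.isDomain
  exact Function.Injective.isDomain (f := Algebra.TensorProduct.map (IsScalarTower.toAlgHom k K Ω) (AlgHom.id k S))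
    (Module.Flat.rTensor_preserves_injective_linearMap (M := S) (IsScalarTower.toAlgHom k K Ω).toLinearMap
      (algebraMap K Ω).injective)

end Groth.Agent.FormCat
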