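import Groth.Agent.FormCat.LocQuot
import Groth.Agent.S19474

/-!
# Formal equidimensionality of algebras essentially of finite type
-/

set_option autoImplicit false
set_option linter.style.haveILetI false

open IsLocalRing Order TensorProduct

namespace Groth.Agent.FormCat

universe u

open DimFormula

theorem isEquidim_of_forall (X : Type u) [CommRing X] [Nontrivial X] (d : WithBot ℕ∞)
    (h : ∀ x : PrimeSpectrum X, x.asIdeal ∈ minimalPrimes X → ringKrullDim (X ⧸ x.asIdeal) = d) :
    EGA4.IsEquidim X ∧ ringKrullDim X = d := by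
  have hd : ringKrullDim X = d := by
    refine le_antisymm ?_ ?_
    · rw [ringKrullDim, Order.krullDim_eq_iSup_coheight]
      refine iSup_le fun x => ?_
      obtain ⟨x₀, hx₀, hle⟩ := Ideal.exists_minimalPrimes_le (bot_le : (⊥ : Ideal X) ≤ x.asIdeal)
      haveI := hx₀.1.1
      rw [VarDim.coheight_eq_ringKrullDim_quotient x]
      refine le_trans ?_ (h ⟨x₀, hx₀.1.1⟩ hx₀).le
      exact ringKrullDim_le_of_surjective (Ideal.Quotient.factor hle) (Ideal.Quotient.factor_surjective hle)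
    · obtain ⟨x₀, hx₀⟩ := Ideal.nonempty_minimalPrimes (I := (⊥ : Ideal X)) bot_ne_top
      rw [← h ⟨x₀, hx₀.1.1⟩ hx₀]
      exact ringKrullDim_quotient_le x₀
  exact ⟨fun p hp => (h ⟨p, hp.1.1⟩ hp).trans hd.symm, hd⟩

theorem height_add_ringKrullDim_quotient_regular (S : Type u) [CommRing S] [IsRegularLocalRing S] (q : Ideal S)
    (hq : q ≠ ⊤) : ringKrullDim (S ⧸ q) + (q.height : WithBot ℕ∞) = ringKrullDim S := by
  haveI := LC.gorenstein_of_isRegularLocalRing (R := S)
  haveI := LC.isCohenMacaulayLocalRing_of_gorenstein (R := S)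
  exact LC.height_add_ringKrullDim_quotient q hq

/-- An equidimensional quotient of a regular local ring is formally equidimensional. -/
theorem isFormallyEquidim_of_regular {S X : Type u} [CommRing S] [IsRegularLocalRing S] [CommRing X]
    [IsNoetherianRing X] [IsLocalRing X] (f : S →+* X) (hf : Function.Surjective f) (hX : EGA4.IsEquidim X) :
    EGA4.IsFormallyEquidim X := by
  letI : Algebra S X := f.toAlgebra
  haveI := FlatLoc6.isLocalRing_cpl S
  haveI := FlatLoc6.isLocalRing_cpl X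
  haveI := FlatLoc6.isNoetherianRing_cpl S
  haveI := FlatLoc6.faithfullyFlat_cpl S
  haveI : IsRegularLocalRing (EGA4.Cpl S) :=
    (S19474.result S _ (maximalIdeal.isMaximal S).ne_top).2.1 inferInstance
  obtain ⟨e⟩ := FormalFib6.exists_cplQuotEquiv S X hf
  let J := RingHom.ker (Algebra.ofId S X)
  let eJ : (S ⧸ J) ≃ₐ[S] X := Ideal.quotientKerAlgEquivOfSurjective hf
  let ε : (EGA4.Cpl S ⧸ J.map (algebraMap S (EGA4.Cpl S))) ≃+* EGA4.Cpl X :=
    ((Algebra.TensorProduct.quotIdealMapEquivTensorQuot (EGA4.Cpl S) J).toRingEquiv.trans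
      ((Algebra.TensorProduct.congr (AlgEquiv.refl (R := S) (A₁ := EGA4.Cpl S)) eJ).trans
        (Algebra.TensorProduct.comm S (EGA4.Cpl S) X)).toRingEquiv).trans e.toRingEquiv
  let ψ : EGA4.Cpl S →+* EGA4.Cpl X := ε.toRingHom.comp (Ideal.Quotient.mk _)
  have hψ : Function.Surjective ψ := ε.surjective.comp Ideal.Quotient.mk_surjective
  have hker : RingHom.ker ψ = J.map (algebraMap S (EGA4.Cpl S)) := by
    ext x
    rw [RingHom.mem_ker, ← Ideal.Quotient.eq_zero_iff_mem]
    exact map_eq_zero_iff ε.toRingHom ε.injective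
  refine (isEquidim_of_forall _ (ringKrullDim X) fun x hx => ?_).1
  let Q := x.asIdeal.comap ψ
  let q := Q.under S
  have hkQ : RingHom.ker ψ ≤ Q := Ideal.ker_le_comap ψ
  have hJq : J ≤ q := Ideal.map_le_iff_le_comap.1 (hker.ge.trans hkQ)
  have hQmin : ∀ K : Ideal (EGA4.Cpl S), K.IsPrime → J.map (algebraMap S _) ≤ K → K ≤ Q → Q ≤ K := by
    intro K hK hJK hKQ
    have hk : RingHom.ker ψ ≤ K := hker.le.trans hJK
    have h1 := hx.2 ⟨Ideal.map_isPrime_of_surjective hψ hk, bot_le⟩
      ((Ideal.map_mono hKQ).trans (Ideal.map_comap_le (f := ψ)))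
    refine (Ideal.comap_mono h1).trans (le_of_eq ?_)
    rw [Ideal.comap_map_of_surjective _ hψ, ← RingHom.ker_eq_comap_bot, sup_eq_left.2 hk]
  haveI : Q.LiesOver q := ⟨rfl⟩
  have hQq : Q ∈ (q.map (algebraMap S (EGA4.Cpl S))).minimalPrimes :=
    ⟨⟨inferInstance, Ideal.map_le_iff_le_comap.2 le_rfl⟩,
      fun K hK hle => hQmin K hK.1 ((Ideal.map_mono hJq).trans hK.2) hle⟩
  have hht := height_eq_of_mem_minimalPrimes q hQq
  have hk : RingHom.ker f ≤ q := hJq
  have hmin : q.map f ∈ minimalPrimes X := by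
    refine ⟨⟨Ideal.map_isPrime_of_surjective hf hk, bot_le⟩, fun p hp hle => ?_⟩
    haveI := hp.1
    have h1 : p.comap f ≤ q := (Ideal.comap_mono hle).trans (le_of_eq (by
      rw [Ideal.comap_map_of_surjective _ hf, ← RingHom.ker_eq_comap_bot, sup_eq_left.2 hk]))
    obtain ⟨K, hKQ, hK, hKover⟩ := Ideal.exists_ideal_le_liesOver_of_le Q h1
    have h2 := hQmin K hK (Ideal.map_le_iff_le_comap.2
      ((Ideal.ker_le_comap f).trans hKover.over.le)) hKQ
    rw [Ideal.map_le_iff_le_comap, hKover.over]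
    exact Ideal.comap_mono h2
  have e1 : ringKrullDim (X ⧸ q.map f) = ringKrullDim (S ⧸ q) := by
    refine (ringKrullDim_eq_of_ringEquiv ?_).symm
    have hk' : RingHom.ker ((Ideal.Quotient.mk (q.map f)).comp f) = q := by
      rw [← RingHom.comap_ker, Ideal.mk_ker, Ideal.comap_map_of_surjective _ hf, ← RingHom.ker_eq_comap_bot,
        sup_eq_left.2 hk]
    exact (Ideal.quotEquivOfEq hk'.symm).trans
      (RingHom.quotientKerEquivOfSurjective (Ideal.Quotient.mk_surjective.comp hf))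
  have e2 : ringKrullDim (EGA4.Cpl X ⧸ x.asIdeal) = ringKrullDim (EGA4.Cpl S ⧸ Q) := by
    refine (ringKrullDim_eq_of_ringEquiv ?_).symm
    have hk' : RingHom.ker ((Ideal.Quotient.mk x.asIdeal).comp ψ) = Q := by rw [← RingHom.comap_ker, Ideal.mk_ker]
    exact (Ideal.quotEquivOfEq hk'.symm).trans
      (RingHom.quotientKerEquivOfSurjective (Ideal.Quotient.mk_surjective.comp hψ))
  have h3 := height_add_ringKrullDim_quotient_regular (EGA4.Cpl S) Q (Ideal.IsPrime.ne_top inferInstance)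
  have h4 := height_add_ringKrullDim_quotient_regular S q (Ideal.IsPrime.ne_top inferInstance)
  have h5 : ringKrullDim (EGA4.Cpl S) = ringKrullDim S := S0547.result S
  rw [h5, ← h4, hht] at h3
  show ringKrullDim (EGA4.Cpl X ⧸ x.asIdeal) = _
  rw [e2, ← hX _ hmin, e1]
  obtain ⟨a, ha⟩ := ENat.ne_top_iff_exists.1 (Ideal.height_ne_top (I := q) (Ideal.IsPrime.ne_top inferInstance))
  rw [coe_qd _ Q (Ideal.IsPrime.ne_top inferInstance), coe_qd _ q (Ideal.IsPrime.ne_top inferInstance), ← ha] at h3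
  rw [coe_qd _ Q (Ideal.IsPrime.ne_top inferInstance), coe_qd _ q (Ideal.IsPrime.ne_top inferInstance)]
  have h3' : qd (EGA4.Cpl S) Q + a = qd S q + a := by exact_mod_cast h3
  exact_mod_cast (by omega : qd (EGA4.Cpl S) Q = qd S q)

/-- Formal equidimensionality descends along flat local maps with zero-dimensional closed fibre. -/
theorem isFormallyEquidim_of_flat (B B' : Type u) [CommRing B] [CommRing B'] [IsNoetherianRing B]
    [IsNoetherianRing B'] [IsLocalRing B] [IsLocalRing B'] [Algebra B B'] [IsLocalHom (algebraMap B B')]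
    [Module.Flat B B']
    (hfib : ∀ K : Ideal B', K.IsPrime → (maximalIdeal B).map (algebraMap B B') ≤ K → maximalIdeal B' ≤ K)
    (hdim : ringKrullDim B' = ringKrullDim B) (h : EGA4.IsFormallyEquidim B') : EGA4.IsFormallyEquidim B := by
  obtain ⟨_, _, _⟩ := FlatLoc6.exists_cplHom B B'
  haveI := FlatLoc6.isLocalRing_cpl B
  haveI := FlatLoc6.isLocalRing_cpl B'
  haveI := FlatLoc6.isNoetherianRing_cpl B
  haveI := FlatLoc6.isNoetherianRing_cpl B'
  let Bh := EGA4.Cpl B
  let Bh' := EGA4.Cpl B'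
  refine (isEquidim_of_forall _ (ringKrullDim B) fun Q hQ => le_antisymm ?_ ?_).1
  · exact (ringKrullDim_quotient_le Q.asIdeal).trans (S0547.result B).le
  obtain ⟨Q', hQ'⟩ := PrimeSpectrum.comap_surjective_of_faithfullyFlat (A := Bh) (B := Bh') Q
  obtain ⟨Q'', hmin, hle⟩ := Ideal.exists_minimalPrimes_le (bot_le : (⊥ : Ideal Bh') ≤ Q'.asIdeal)
  haveI := hmin.1.1
  have hQ'' : Q''.under Bh = Q.asIdeal := by
    have h1 : Q''.under Bh ≤ Q.asIdeal := (Ideal.comap_mono hle).trans (congrArg PrimeSpectrum.asIdeal hQ').le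
    exact le_antisymm h1 (hQ.2 ⟨inferInstance, bot_le⟩ h1)
  have hQmap : Q.asIdeal.map (algebraMap Bh Bh') ≤ Q'' := Ideal.map_le_iff_le_comap.2 hQ''.ge
  let M := maximalIdeal Bh
  let M' := maximalIdeal Bh'
  have hB' : (maximalIdeal B').map (algebraMap B' Bh') = M' :=
    (AdicCompletion.maximalIdeal_eq_map_of_fg (IsNoetherian.noetherian (maximalIdeal B'))).symm
  have hMB : (maximalIdeal B).map (algebraMap B Bh) = M :=
    (AdicCompletion.maximalIdeal_eq_map_of_fg (IsNoetherian.noetherian (maximalIdeal B))).symm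
  haveI : IsLocalHom (algebraMap Bh Bh') := inferInstance
  have hover : M'.under Bh = M :=
    ((IsLocalRing.local_hom_TFAE (algebraMap Bh Bh')).out 0 4).1 (by infer_instance)
  have hM' : M' ∈ (M.map (algebraMap Bh Bh')).minimalPrimes := by
    refine ⟨⟨inferInstance, Ideal.map_le_iff_le_comap.2 hover.ge⟩, fun K hK _ => ?_⟩
    haveI := hK.1
    show M' ≤ K
    rw [← hB', Ideal.map_le_iff_le_comap]
    refine hfib _ inferInstance ?_
    rw [Ideal.map_le_iff_le_comap, Ideal.comap_comap, ← IsScalarTower.algebraMap_eq,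
      IsScalarTower.algebraMap_eq B Bh Bh', ← Ideal.comap_comap, ← Ideal.map_le_iff_le_comap, hMB,
      ← Ideal.map_le_iff_le_comap]
    exact hK.2
  have hid : ∀ (R : Type u) [CommRing R] [IsLocalRing R], IsFracs (RingHom.id R) := fun R _ _ x =>
    ⟨x, 1, isUnit_one, by simp⟩
  have e1 := (hid Bh).ringKrullDim_quotient Q
  have e2 := (hid Bh').ringKrullDim_quotient ⟨Q'', hmin.1.1⟩
  have h1 := h Q'' hmin
  rw [show ringKrullDim (AdicCompletion (maximalIdeal B') B') = ringKrullDim B' from S0547.result B', hdim] at h1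
  show ringKrullDim B ≤ ringKrullDim (Bh ⧸ Q.asIdeal)
  rw [← h1, e1]
  refine e2.le.trans (WithBot.coe_le_coe.2 ?_)
  exact height_map_mk_le Q.asIdeal M (le_maximalIdeal Q.2.ne_top) Q'' M' hM' hover hQmap
    (le_maximalIdeal hmin.1.1.ne_top)

section Gen

variable {T T' B : Type u} [CommRing T] [CommRing T'] [Algebra T T'] [CommRing B] [IsLocalRing B] [Algebra T B]

/-- A flat local extension of a ring of fractions of a quotient, at a prime of a flat extension. -/
theorem exists_flat_local [Module.Flat T T'] [IsNoetherianRing T'] (hφ : IsFracs (algebraMap T B))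
    (P' : PrimeSpectrum T') (hPP : P'.asIdeal.under T = (cp (algebraMap T B)).asIdeal) :
    ∃ (B' : Type u) (_ : CommRing B') (_ : IsLocalRing B') (_ : IsNoetherianRing B') (_ : Algebra B B')
      (_ : IsLocalHom (algebraMap B B')) (_ : Module.Flat B B') (χ : T' →+* B'),
      IsFracs χ ∧ cp χ = P' ∧
      (∀ t : T, χ (algebraMap T T' t) = algebraMap B B' (algebraMap T B t)) ∧
      (∀ J : PrimeSpectrum T', J ≤ P' → (RingHom.ker (algebraMap T B)).map (algebraMap T T') ≤ J.asIdeal →
        ∃ x : PrimeSpectrum B', PrimeSpectrum.comap χ x = J) ∧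
      ∃ ι : Localization.AtPrime P'.asIdeal →+* B', Function.Surjective ι := by
  let φ := algebraMap T B
  let P := cp φ
  let L := Localization.AtPrime P'.asIdeal
  haveI : Module.Flat T L := Module.Flat.trans T T' L
  let B' := B ⊗[T] L
  let ι : L →+* B' := (Algebra.TensorProduct.includeRight (R := T) (A := B) (B := L)).toRingHom
  let χ : T' →+* B' := ι.comp (algebraMap T' L)
  have hχT : ∀ t : T, χ (algebraMap T T' t) = algebraMap B B' (φ t) := fun t => by
    show (1 : B) ⊗ₜ[T] algebraMap T' L (algebraMap T T' t) = φ t ⊗ₜ[T] (1 : L)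
    rw [← IsScalarTower.algebraMap_apply, Algebra.algebraMap_eq_smul_one, ← TensorProduct.smul_tmul]
    show (t • (1 : B)) ⊗ₜ[T] _ = _
    rw [← Algebra.algebraMap_eq_smul_one]
  have hunit : ∀ s : T, IsUnit (φ s) → IsUnit (algebraMap T' L (algebraMap T T' s)) := fun s hs =>
    IsLocalization.map_units L (⟨_, fun hmem => (isUnit_iff_notMem (φ := φ) s).1 hs
      (hPP ▸ (Ideal.mem_comap.2 hmem : s ∈ P'.asIdeal.under T))⟩ : P'.asIdeal.primeCompl)
  have hι : Function.Surjective ι := fun w => by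
    induction w using TensorProduct.induction_on with
    | zero => exact ⟨0, map_zero _⟩
    | add a b ha hb =>
      obtain ⟨⟨x, rfl⟩, ⟨y, rfl⟩⟩ := ha, hb
      exact ⟨x + y, map_add _ _ _⟩
    | tmul b l =>
      obtain ⟨r, s, hs, he⟩ := hφ b
      obtain ⟨u, hu⟩ := hunit s hs
      refine ⟨algebraMap T' L (algebraMap T T' r) * ↑u⁻¹ * l, ?_⟩
      have h1 : χ (algebraMap T T' r) = (b ⊗ₜ[T] (1 : L)) * χ (algebraMap T T' s) := by
        rw [hχT, hχT]
        show φ r ⊗ₜ[T] (1 : L) = _ * (φ s ⊗ₜ[T] (1 : L))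
        rw [Algebra.TensorProduct.tmul_mul_tmul, mul_one, he]
      rw [map_mul, map_mul]
      show χ (algebraMap T T' r) * _ * _ = _
      rw [h1, mul_assoc (b ⊗ₜ[T] (1 : L))]
      show _ * (ι (algebraMap T' L (algebraMap T T' s)) * ι ↑u⁻¹) * ι l = _
      rw [← hu, ← map_mul, Units.mul_inv, map_one, mul_one]
      show (b ⊗ₜ[T] (1 : L)) * ((1 : B) ⊗ₜ[T] l) = _
      rw [Algebra.TensorProduct.tmul_mul_tmul, mul_one, one_mul]
  -- points of `B'`
  have hpts : ∀ J : PrimeSpectrum T', J ≤ P' → (RingHom.ker φ).map (algebraMap T T') ≤ J.asIdeal →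
      (∀ s : T, IsUnit (φ s) → algebraMap T T' s ∉ J.asIdeal) →
      ∃ x : PrimeSpectrum B', PrimeSpectrum.comap χ x = J := by
    intro J hJP hJI hJs
    let Z := FractionRing (T' ⧸ J.asIdeal)
    let g : T' →+* Z := algebraMap T' Z
    have hg : ∀ a, g a = 0 ↔ a ∈ J.asIdeal := fun a => by
      rw [show g a = algebraMap (T' ⧸ J.asIdeal) Z (algebraMap T' (T' ⧸ J.asIdeal) a) from
        IsScalarTower.algebraMap_apply .., IsFractionRing.to_map_eq_zero_iff, Ideal.Quotient.algebraMap_eq,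
        Ideal.Quotient.eq_zero_iff_mem]
    let gL : L →+* Z := IsLocalization.lift (M := P'.asIdeal.primeCompl) (g := g) fun s =>
      isUnit_iff_ne_zero.2 fun h0 => s.2 (hJP ((hg _).1 h0))
    obtain ⟨gB, hgB⟩ := hφ.exists_lift (g.comp (algebraMap T T'))
      (fun a ha => (hg _).2 (hJI (Ideal.mem_map_of_mem _ ha)))
      (fun s hs => isUnit_iff_ne_zero.2 fun h0 => hJs s hs ((hg _).1 h0))
    let aL : L →ₐ[T] Z :=
      { gL with
        commutes' := fun t => by
          show gL (algebraMap T L t) = algebraMap T Z t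
          rw [IsScalarTower.algebraMap_apply T T' L, IsScalarTower.algebraMap_apply T T' Z]
          exact IsLocalization.lift_eq _ _ }
    let aB : B →ₐ[T] Z :=
      { gB with
        commutes' := fun t => (RingHom.congr_fun hgB t).trans (IsScalarTower.algebraMap_apply T T' Z t).symm }
    let w : B' →ₐ[T] Z := Algebra.TensorProduct.lift aB aL fun x y => mul_comm (aB x) (aL y)
    refine ⟨⟨RingHom.ker w.toRingHom, RingHom.ker_isPrime _⟩, PrimeSpectrum.ext ?_⟩
    ext a
    show w ((1 : B) ⊗ₜ[T] algebraMap T' L a) = 0 ↔ _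
    rw [show w ((1 : B) ⊗ₜ[T] algebraMap T' L a) = aB 1 * aL (algebraMap T' L a) from
      Algebra.TensorProduct.lift_tmul aB aL (fun x y => mul_comm (aB x) (aL y)) 1 (algebraMap T' L a),
      map_one, one_mul]
    show gL (algebraMap T' L a) = 0 ↔ _
    rw [IsLocalization.lift_eq, hg]
  have hP's : ∀ J : PrimeSpectrum T', J ≤ P' → ∀ s : T, IsUnit (φ s) → algebraMap T T' s ∉ J.asIdeal :=
    fun J hJ s hs hmem => (isUnit_iff_notMem (φ := φ) s).1 hs
      (hPP ▸ (Ideal.mem_comap.2 (hJ hmem) : s ∈ P'.asIdeal.under T))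
  have hkP : (RingHom.ker φ).map (algebraMap T T') ≤ P'.asIdeal := Ideal.map_le_iff_le_comap.2
    ((Ideal.ker_le_comap φ).trans hPP.ge)
  obtain ⟨x₀, hx₀⟩ := hpts P' le_rfl hkP (hP's P' le_rfl)
  haveI : Nontrivial B' := ⟨⟨1, 0, fun h10 => x₀.2.ne_top ((Ideal.eq_top_iff_one _).2 (h10 ▸ zero_mem _))⟩⟩
  haveI : IsLocalRing B' := .of_surjective' ι hι
  have hχ : IsFracs χ := fun w => by
    obtain ⟨l, rfl⟩ := hι w
    obtain ⟨r, s, rfl⟩ := IsLocalization.exists_mk'_eq P'.asIdeal.primeCompl l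
    refine ⟨r, s, (IsLocalization.map_units L s).map ι, ?_⟩
    show ι _ * ι _ = ι _
    rw [← map_mul, IsLocalization.mk'_spec]
  have hcp : cp χ = P' := by
    refine le_antisymm (fun s hs => ?_) (le_of_eq_of_le hx₀.symm (comap_le_cp x₀))
    by_contra hns
    exact (isUnit_iff_notMem (φ := χ) s).1
      ((IsLocalization.map_units L (⟨s, hns⟩ : P'.asIdeal.primeCompl)).map ι) hs
  haveI := hχ.isNoetherianRing
  -- the flat local map
  haveI : IsLocalHom (algebraMap B B') := by
    refine ((local_hom_TFAE (algebraMap B B')).out 0 2).2 ?_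
    rw [Ideal.map_le_iff_le_comap]
    intro b hb
    obtain ⟨r, s, hs, he⟩ := hφ b
    have hr : r ∈ P.asIdeal := Ideal.mem_comap.2 (he ▸ Ideal.mul_mem_right _ _ hb)
    have hr' : algebraMap T T' r ∈ (cp χ).asIdeal := by
      rw [hcp]
      exact Ideal.mem_comap.1 (hPP.ge hr)
    show algebraMap B B' b ∈ maximalIdeal B'
    refine (Ideal.mul_unit_mem_iff_mem _ (hs.map (algebraMap B B'))).1 ?_
    rw [← map_mul, he, ← hχT]
    exact hr'
  exact ⟨B', inferInstance, inferInstance, inferInstance, inferInstance, inferInstance, inferInstance, χ, hχ, hcp,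
    hχT, fun J hJ hI => hpts J hJ hI (hP's J hJ), ι, hι⟩

end Gen

section Main

variable (A : Type u) [CommRing A] [IsNoetherianRing A] [IsLocalRing A] {m : ℕ}

attribute [local instance] MvPolynomial.algebraMvPolynomial

theorem dlt_add_length_le (hA : EGA4.IsFormallyCatenary A) (s : LTSeries (PrimeSpectrum (MvPolynomial (Fin m) A))) :
    dlt A s.last.asIdeal + s.length ≤ dlt A s.head.asIdeal := by
  have h : ∀ i : Fin (s.length + 1), dlt A (s i).asIdeal + i ≤ dlt A s.head.asIdeal := by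
    intro i
    induction i using Fin.induction with
    | zero => exact le_rfl
    | succ i ih =>
      have h1 := dlt_lt A hA (s.strictMono (Fin.castSucc_lt_succ (i := i)))
      simp only [Fin.val_succ, Fin.val_castSucc] at *
      omega
  exact h (Fin.last _)

theorem height_add_dlt_le (hA : EGA4.IsFormallyCatenary A) {Q P : PrimeSpectrum (MvPolynomial (Fin m) A)}
    (h : Q ≤ P) : (P.asIdeal.map (Ideal.Quotient.mk Q.asIdeal)).height + (dlt A P.asIdeal : ℕ∞) ≤ dlt A Q.asIdeal := by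
  let π := Ideal.Quotient.mk Q.asIdeal
  have hπ : Function.Surjective π := Ideal.Quotient.mk_surjective
  have hker : RingHom.ker π ≤ P.asIdeal := Ideal.mk_ker.le.trans h
  let P₁ : PrimeSpectrum (_ ⧸ Q.asIdeal) := ⟨_, Ideal.map_isPrime_of_surjective hπ hker⟩
  show P₁.asIdeal.height + _ ≤ _
  rw [P₁.height_eq_orderHeight]
  obtain ⟨t, ht, -⟩ := dlt_of_le A hA h
  refine le_trans (add_le_add (height_le (n := ((t : ℕ) : ℕ∞)) fun l hl => ?_) le_rfl)
    (by rw [← ht]; push_cast; rw [add_comm])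
  have hsm := RingHom.strictMono_comap_of_surjective hπ
  let s := l.map (PrimeSpectrum.comap π) hsm
  have hlast : s.last = P := by
    rw [LTSeries.last_map, hl]
    exact PrimeSpectrum.ext ((Ideal.comap_map_of_surjective π hπ _).trans (sup_eq_left.2 hker))
  have h0 : Q ≤ s.head :=
    show Q.asIdeal ≤ l.head.asIdeal.comap π from Ideal.mk_ker.symm.le.trans (Ideal.ker_le_comap π)
  obtain ⟨t', ht', -⟩ := dlt_of_le A hA h0
  have h2 := dlt_add_length_le A hA s
  rw [hlast] at h2
  have hlen : s.length = l.length := rfl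
  exact_mod_cast (by omega : l.length ≤ t)

/-- Equidimensional local algebras essentially of finite type over a formally catenary ring are formally
equidimensional. -/
theorem isFormallyEquidim_of_isFracs (hA : EGA4.IsFormallyCatenary A) (B : Type u) [CommRing B]
    [IsNoetherianRing B] [IsLocalRing B] [Algebra (MvPolynomial (Fin m) A) B]
    (hφ : IsFracs (algebraMap (MvPolynomial (Fin m) A) B)) (hB : EGA4.IsEquidim B) :
    EGA4.IsFormallyEquidim B := by
  let T := MvPolynomial (Fin m) A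
  let T' := MvPolynomial (Fin m) (EGA4.Cpl A)
  haveI := FlatLoc6.isLocalRing_cpl A
  haveI := FlatLoc6.isNoetherianRing_cpl A
  haveI := faithfullyFlat_poly A (m := m)
  haveI : IsAdicComplete (maximalIdeal (EGA4.Cpl A)) (EGA4.Cpl A) := by
    rw [AdicCompletion.maximalIdeal_eq_map_of_fg (IsNoetherian.noetherian (maximalIdeal A))]
    exact AdicCompletion.isAdicComplete_self _ (IsNoetherian.noetherian _)
  let φ := algebraMap T B
  let P := cp φ
  obtain ⟨-, P', -, -, hP'⟩ := exists_lift A (le_refl P)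
  have hPP : P'.asIdeal.under T = P.asIdeal := under_eq_of_mem_minimalPrimes P.asIdeal hP'
  obtain ⟨B', _, _, _, _, _, _, χ, hχ, hcp, hχT, hpts, ι, hι⟩ := exists_flat_local hφ P' hPP
  have hker : (RingHom.ker φ).map (algebraMap T T') ≤ RingHom.ker χ := Ideal.map_le_iff_le_comap.2 fun t ht => by
    show χ (algebraMap T T' t) = 0
    rw [hχT, RingHom.mem_ker.1 ht, map_zero]
  -- equidimensionality of `B'`
  have key : ∀ x : PrimeSpectrum B', x.asIdeal ∈ minimalPrimes B' → ringKrullDim (B' ⧸ x.asIdeal) = ringKrullDim B := by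
    intro x hx
    let J := PrimeSpectrum.comap χ x
    have hJP : J ≤ P' := hcp ▸ comap_le_cp x
    have hJI : (RingHom.ker φ).map (algebraMap T T') ≤ J.asIdeal := hker.trans (ker_le_comap x)
    have hJmin : ∀ K : PrimeSpectrum T', (RingHom.ker φ).map (algebraMap T T') ≤ K.asIdeal → K ≤ J → J ≤ K := by
      intro K hK hKJ
      obtain ⟨y, hy⟩ := hpts K (hKJ.trans hJP) hK
      rw [← hy] at hKJ ⊢
      exact Ideal.comap_mono (hx.2 ⟨y.2, bot_le⟩ ((hχ.comap_le_iff y x).1 hKJ))
    let Q : PrimeSpectrum T := PrimeSpectrum.comap (algebraMap T T') J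
    have hkQ : RingHom.ker φ ≤ Q.asIdeal := Ideal.map_le_iff_le_comap.1 hJI
    have hQP : Q ≤ P := (Ideal.comap_mono hJP).trans hPP.le
    have hJQ : J.asIdeal ∈ (Q.asIdeal.map (algebraMap T T')).minimalPrimes :=
      ⟨⟨J.2, Ideal.map_le_iff_le_comap.2 le_rfl⟩, fun K hK hle =>
        hJmin ⟨K, hK.1⟩ ((Ideal.map_mono hkQ).trans hK.2) hle⟩
    obtain ⟨b, hb⟩ := hφ.mem_range Q hkQ hQP
    have hbmin : b.asIdeal ∈ minimalPrimes B := by
      refine ⟨⟨b.2, bot_le⟩, fun c hc hle => ?_⟩
      have h1 : PrimeSpectrum.comap φ ⟨c, hc.1⟩ ≤ Q := hb ▸ Ideal.comap_mono hle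
      haveI : J.asIdeal.LiesOver Q.asIdeal := ⟨rfl⟩
      obtain ⟨K, hKJ, hK, hKo⟩ := Ideal.exists_ideal_le_liesOver_of_le J.asIdeal h1
      have h2 := hJmin ⟨K, hK⟩ (Ideal.map_le_iff_le_comap.2 ((ker_le_comap _).trans hKo.over.le)) hKJ
      have h3 : Q ≤ PrimeSpectrum.comap φ ⟨c, hc.1⟩ := show Q.asIdeal ≤ _ from hKo.over ▸ Ideal.comap_mono h2
      rw [← hb] at h3
      exact (hφ.comap_le_iff b ⟨c, hc.1⟩).1 h3
    rw [← hB _ hbmin, hχ.ringKrullDim_quotient x, hφ.ringKrullDim_quotient b, hcp, hb]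
    refine congrArg _ (le_antisymm (height_map_mk_le Q.asIdeal P.asIdeal hQP J.asIdeal P'.asIdeal hP' hPP
      hJQ.1.2 hJP) ?_)
    have e1 := height_add_dlt_le A hA hQP
    have e2 := dlt_add_height (EGA4.Cpl A) J.asIdeal P'.asIdeal hJP
    rw [dlt_eq_of_mem_minimalPrimes A hA Q.asIdeal J.asIdeal hJQ,
      dlt_eq_of_mem_minimalPrimes A hA P.asIdeal P'.asIdeal hP'] at e2
    rw [← e2, add_comm] at e1
    exact (ENat.add_le_add_iff_left (ENat.natCast_ne_top _)).1 e1
  obtain ⟨heq, hdim⟩ := isEquidim_of_forall B' _ key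
  have hreg : EGA4.IsFormallyEquidim B' := by
    obtain ⟨Λ, _, n, f, hΛ, hf⟩ := CohenLib.exists_surjective (EGA4.Cpl A) (IsNoetherian.noetherian _)
    obtain ⟨_, hreg, -⟩ := CohenLib.isRegular_complete_mvPowerSeries hΛ n
    haveI := RegLoc6.isRegularRing_of_isRegularLocalRing (MvPowerSeries (Fin n) Λ)
    let π : MvPolynomial (Fin m) (MvPowerSeries (Fin n) Λ) →+* T' := MvPolynomial.map f
    have hπ : Function.Surjective π := MvPolynomial.map_surjective _ hf
    let P₀ := P'.asIdeal.comap π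
    let lh : Localization.AtPrime P₀ →+* Localization.AtPrime P'.asIdeal :=
      Localization.localRingHom P₀ P'.asIdeal π rfl
    have hlh : Function.Surjective lh := localRingHom_surjective π hπ P₀ P'.asIdeal rfl
    refine isFormallyEquidim_of_regular (S := Localization.AtPrime P₀) (ι.comp lh) ?_ heq
    rw [RingHom.coe_comp]
    exact hι.comp hlh
  refine isFormallyEquidim_of_flat B B' (fun K hK hle => ?_) hdim hreg
  have hKP : (PrimeSpectrum.comap χ ⟨K, hK⟩ : PrimeSpectrum T') ≤ P' := hcp ▸ comap_le_cp _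
  have hPK : P.asIdeal.map (algebraMap T T') ≤ (PrimeSpectrum.comap χ ⟨K, hK⟩).asIdeal := by
    refine Ideal.map_le_iff_le_comap.2 fun t ht => ?_
    show χ (algebraMap T T' t) ∈ K
    rw [hχT]
    exact hle (Ideal.mem_map_of_mem _ ht)
  have h1 : P' ≤ PrimeSpectrum.comap χ ⟨K, hK⟩ := hP'.2 ⟨Ideal.IsPrime.comap χ, hPK⟩ hKP
  rw [← hcp] at h1
  exact (hχ.comap_le_iff (closedPoint B') ⟨K, hK⟩).1 h1

end Main

end Groth.Agent.FormCat
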