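import Groth.Agent.FormCat.Equidim
import Groth.Agent.FlatLoc6.DimEq
import Groth.Agent.FlatLoc6.EquidimCat

/-!
# Equidimensionality and catenarity along flat local homomorphisms
-/

set_option autoImplicit false
set_option linter.style.haveILetI false

open IsLocalRing Order

namespace Groth.Agent.FormCat

universe u

theorem isEquidim_quotient_iff {R : Type u} [CommRing R] [IsNoetherianRing R] [IsLocalRing R] (a : Ideal R)
    (ha : a ≠ ⊤) :
    EGA4.IsEquidim (R ⧸ a) ↔ ∀ p ∈ a.minimalPrimes, ∀ p' ∈ a.minimalPrimes, qd R p = qd R p' := by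
  let π := Ideal.Quotient.mk a
  have hπ : Function.Surjective π := Ideal.Quotient.mk_surjective
  haveI : Nontrivial (R ⧸ a) := Ideal.Quotient.nontrivial_iff.mpr ha
  have hmem : ∀ x : Ideal (R ⧸ a), x ∈ minimalPrimes (R ⧸ a) → x.comap π ∈ a.minimalPrimes := fun x hx => by
    rw [Ideal.minimalPrimes_eq_comap]
    exact ⟨x, hx, rfl⟩
  have hdim : ∀ x : Ideal (R ⧸ a), x ∈ minimalPrimes (R ⧸ a) →
      ringKrullDim ((R ⧸ a) ⧸ x) = (qd R (x.comap π) : WithBot ℕ∞) := fun x hx => by
    haveI := hx.1.1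
    rw [← coe_qd R (x.comap π) (Ideal.IsPrime.ne_top inferInstance)]
    have hk : RingHom.ker ((Ideal.Quotient.mk x).comp π) = x.comap π := by rw [← RingHom.comap_ker, Ideal.mk_ker]
    exact (ringKrullDim_eq_of_ringEquiv ((Ideal.quotEquivOfEq hk.symm).trans
      (RingHom.quotientKerEquivOfSurjective (Ideal.Quotient.mk_surjective.comp hπ)))).symm
  constructor
  · intro h p hp p' hp'
    rw [Ideal.minimalPrimes_eq_comap] at hp hp'
    obtain ⟨x, hx, rfl⟩ := hp
    obtain ⟨y, hy, rfl⟩ := hp'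
    have := ((hdim x hx).symm.trans (h x hx)).trans ((h y hy).symm.trans (hdim y hy))
    exact_mod_cast this
  · intro h
    obtain ⟨x₀, hx₀⟩ := Ideal.nonempty_minimalPrimes (I := (⊥ : Ideal (R ⧸ a))) bot_ne_top
    refine (isEquidim_of_forall _ (qd R (x₀.comap π) : WithBot ℕ∞) fun x hx => ?_).1
    rw [hdim x.asIdeal hx, h _ (hmem _ hx) _ (hmem _ hx₀)]

theorem isEquidim_of_ringEquiv {R R' : Type u} [CommRing R] [CommRing R'] (e : R ≃+* R')
    (h : EGA4.IsEquidim R) : EGA4.IsEquidim R' := by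
  intro p hp
  haveI := hp.1.1
  have h1 : p.comap e.toRingHom ∈ minimalPrimes R := by
    refine ⟨⟨inferInstance, bot_le⟩, fun q hq hle => ?_⟩
    haveI := hq.1
    have hm : q.map e.toRingHom ≤ p := Ideal.map_le_iff_le_comap.2 hle
    have h2 := hp.2 ⟨Ideal.map_isPrime_of_equiv e, bot_le⟩ hm
    exact (Ideal.comap_mono h2).trans (le_of_eq (Ideal.comap_map_of_bijective e.toRingHom e.bijective))
  rw [← ringKrullDim_eq_of_ringEquiv e, ← h _ h1]
  have hk : RingHom.ker ((Ideal.Quotient.mk p).comp e.toRingHom) = p.comap e.toRingHom := by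
    rw [← RingHom.comap_ker, Ideal.mk_ker]
  exact (ringKrullDim_eq_of_ringEquiv ((Ideal.quotEquivOfEq hk.symm).trans
    (RingHom.quotientKerEquivOfSurjective (Ideal.Quotient.mk_surjective.comp e.surjective)))).symm

/-- A ring with a function dropping by one along coverings is catenary. -/
theorem isCatenary_of_fn {R : Type u} [CommRing R] (δ : PrimeSpectrum R → ℕ)
    (hlt : ∀ q p, q < p → δ p < δ q) (hcov : ∀ q p, q ⋖ p → δ p + 1 = δ q) : CAlg.IsCatenary R := by
  have key : ∀ s : LTSeries (PrimeSpectrum R), δ s.last + s.length ≤ δ s.head ∧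
      ((∀ i : Fin s.length, s i.castSucc ⋖ s i.succ) → δ s.last + s.length = δ s.head) := by
    intro s
    have h : ∀ i : Fin (s.length + 1), δ (s i) + i ≤ δ s.head ∧
        ((∀ i : Fin s.length, s i.castSucc ⋖ s i.succ) → δ (s i) + i = δ s.head) := by
      intro i
      induction i using Fin.induction with
      | zero => exact ⟨le_rfl, fun _ => rfl⟩
      | succ i ih =>
        refine ⟨?_, fun hc => ?_⟩
        · have h1 := hlt _ _ (s.strictMono (Fin.castSucc_lt_succ (i := i)))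
          have h2 := ih.1
          simp only [Fin.val_succ, Fin.val_castSucc] at *
          omega
        · have h1 := hcov _ _ (hc i)
          have h2 := ih.2 hc
          simp only [Fin.val_succ, Fin.val_castSucc] at *
          omega
    exact ⟨(h (Fin.last _)).1, (h (Fin.last _)).2⟩
  refine ⟨fun p q _ => ⟨δ p, fun s h1 _ => ?_⟩, fun s t h1 h2 hs ht => ?_⟩
  · have := (key s).1
    rw [h1] at this
    omega
  · have e1 := (key s).2 hs
    have e2 := (key t).2 ht
    rw [h1, h2] at e1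
    omega

section Local

variable {B : Type u} [CommRing B] [IsNoetherianRing B] [IsLocalRing B]

theorem qd_covBy (hcat : CAlg.IsCatenary B) {q p : PrimeSpectrum B} (h : q ⋖ p) :
    qd B p.asIdeal + 1 = qd B q.asIdeal := by
  obtain ⟨l, hh, hl, hs, hd⟩ := FlatLoc6.exists_saturated_to_closedPoint p
  obtain ⟨l', hh', hl', hs', hd'⟩ := FlatLoc6.exists_saturated_to_closedPoint q
  let l₁ : LTSeries (PrimeSpectrum B) := l.cons q (hh.symm ▸ h.lt)
  have hsat : ∀ i : Fin l₁.length, l₁ i.castSucc ⋖ l₁ i.succ := by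
    show ∀ i : Fin (l₁.length), l₁.toFun i.castSucc ⋖ l₁.toFun i.succ
    intro i
    have hlen : l₁.length = l.length + 1 := RelSeries.cons_length ..
    rcases i with ⟨i, hi⟩
    rcases i with _ | i
    · show l₁.toFun 0 ⋖ l₁.toFun ⟨1, _⟩
      have h1 : l₁.toFun 0 = q := RelSeries.head_cons ..
      have h2 : l₁.toFun ⟨1, by omega⟩ = p := (RelSeries.cons_cast_succ l q (hh.symm ▸ h.lt) ⟨0, by omega⟩).trans hh
      rw [h1, h2]
      exact h
    · have h3 : ∀ j (hj : j < l.length + 1), l₁.toFun ⟨j + 1, by omega⟩ = l.toFun ⟨j, hj⟩ := fun j hj =>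
        RelSeries.cons_cast_succ l q (hh.symm ▸ h.lt) ⟨j, hj⟩
      show l₁.toFun ⟨i + 1, _⟩ ⋖ l₁.toFun ⟨i + 2, _⟩
      rw [h3 i (by omega), h3 (i + 1) (by omega)]
      exact hs ⟨i, by omega⟩
  have e := hcat.2 l₁ l' (by rw [hh', RelSeries.head_cons]) (by rw [RelSeries.last_cons, hl, hl']) hsat hs'
  rw [RelSeries.cons_length] at e
  rw [coe_qd B p.asIdeal p.2.ne_top] at hd
  rw [coe_qd B q.asIdeal q.2.ne_top] at hd'
  have e1 : l.length = qd B p.asIdeal := by exact_mod_cast hd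
  have e2 : l'.length = qd B q.asIdeal := by exact_mod_cast hd'
  omega

/-- A complete local ring is catenary. -/
theorem isCatenary_of_complete [IsAdicComplete (maximalIdeal B) B] : CAlg.IsCatenary B := by
  have key : ∀ q p : PrimeSpectrum B, q ≤ p → ∃ t : ℕ, qd B q.asIdeal = qd B p.asIdeal + t ∧
      ((t : ℕ∞) = (p.asIdeal.map (Ideal.Quotient.mk q.asIdeal)).height) := by
    intro q p h
    have e := LC.dim_quot_eq_add_height q.asIdeal p.asIdeal h
    rw [coe_qd B p.asIdeal p.2.ne_top, coe_qd B q.asIdeal q.2.ne_top] at e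
    have h2 : (qd B q.asIdeal : ℕ∞) = qd B p.asIdeal + (p.asIdeal.map (Ideal.Quotient.mk q.asIdeal)).height := by
      exact_mod_cast e
    obtain ⟨t, ht⟩ := ENat.ne_top_iff_exists.1 (show (p.asIdeal.map (Ideal.Quotient.mk q.asIdeal)).height ≠ ⊤ by
      intro he
      rw [he, add_top] at h2
      exact ENat.natCast_ne_top _ h2)
    rw [← ht] at h2
    exact ⟨t, by exact_mod_cast h2, ht⟩
  have hne : ∀ q p : PrimeSpectrum B, q < p → ∀ t : ℕ,
      (t : ℕ∞) = (p.asIdeal.map (Ideal.Quotient.mk q.asIdeal)).height → t ≠ 0 := by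
    rintro q p h t ht rfl
    haveI : (p.asIdeal.map (Ideal.Quotient.mk q.asIdeal)).IsPrime :=
      Ideal.map_isPrime_of_surjective Ideal.Quotient.mk_surjective (Ideal.mk_ker.le.trans h.le)
    have hb := (Ideal.height_eq_zero_iff_eq_bot).1 ht.symm
    exact h.not_ge fun x hx => Ideal.Quotient.eq_zero_iff_mem.1 ((Ideal.mem_bot).1 (hb ▸ Ideal.mem_map_of_mem _ hx))
  refine isCatenary_of_fn (fun p => qd B p.asIdeal) (fun q p h => ?_) (fun q p h => ?_)
  · obtain ⟨t, ht, ht'⟩ := key q p h.le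
    have := hne q p h t ht'
    show qd B p.asIdeal < qd B q.asIdeal
    omega
  · obtain ⟨t, ht, ht'⟩ := key q p h.le
    have := hne q p h.lt t ht'
    have h1 := height_map_mk_le_one h
    rw [← ht'] at h1
    have : t ≤ 1 := by exact_mod_cast h1
    show qd B p.asIdeal + 1 = qd B q.asIdeal
    omega

theorem qd_add_height (heq : EGA4.IsEquidim B) (hcat : CAlg.IsCatenary B) {D : ℕ} (hD : ringKrullDim B = D)
    (P : Ideal B) [P.IsPrime] : ∃ a : ℕ, P.height = a ∧ qd B P + a = D := by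
  obtain ⟨a, ha⟩ := ENat.ne_top_iff_exists.1 (Ideal.height_ne_top (I := P) (Ideal.IsPrime.ne_top inferInstance))
  have h := FlatLoc6.height_add_ringKrullDim_quotient heq hcat P
  rw [← ha, coe_qd B P (Ideal.IsPrime.ne_top inferInstance), hD] at h
  exact ⟨a, ha.symm, by rw [add_comm]; exact_mod_cast h⟩

end Local

section Flat

variable (A B : Type u) [CommRing A] [CommRing B] [IsNoetherianRing A] [IsNoetherianRing B] [IsLocalRing A]
  [IsLocalRing B] [Algebra A B] [IsLocalHom (algebraMap A B)] [Module.Flat A B]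

omit [Module.Flat A B] in
theorem qd_le (P : Ideal B) [P.IsPrime] : qd B P ≤ qd A (P.under A) + qd B (EGA4.mB A B) := by
  let p := P.under A
  haveI : IsLocalRing (A ⧸ p) := .of_surjective' _ Ideal.Quotient.mk_surjective
  haveI : IsLocalRing (B ⧸ P) := .of_surjective' _ Ideal.Quotient.mk_surjective
  letI : Algebra (A ⧸ p) (B ⧸ P) := (Ideal.quotientMap P (algebraMap A B) le_rfl).toAlgebra
  haveI : IsLocalHom (algebraMap (A ⧸ p) (B ⧸ P)) := by
    refine ⟨fun a ha => ?_⟩
    obtain ⟨a, rfl⟩ := Ideal.Quotient.mk_surjective a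
    change IsUnit (Ideal.Quotient.mk P (algebraMap A B a)) at ha
    haveI := IsLocalHom.of_surjective (Ideal.Quotient.mk P) Ideal.Quotient.mk_surjective
    exact (isUnit_of_map_unit (algebraMap A B) a (isUnit_of_map_unit (Ideal.Quotient.mk P) _ ha)).map _
  have h := FlatLoc6.ringKrullDim_le_add_fibre (A := A ⧸ p) (B := B ⧸ P)
  have hle : EGA4.mB A B ≤ RingHom.ker ((Ideal.Quotient.mk (EGA4.mB (A ⧸ p) (B ⧸ P))).comp (Ideal.Quotient.mk P)) := by
    rw [EGA4.mB, Ideal.map_le_iff_le_comap]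
    intro a ha
    show Ideal.Quotient.mk _ (Ideal.Quotient.mk P (algebraMap A B a)) = 0
    rw [Ideal.Quotient.eq_zero_iff_mem]
    refine Ideal.mem_map_of_mem (algebraMap (A ⧸ p) (B ⧸ P)) (x := Ideal.Quotient.mk p a) ?_
    rw [← IsLocalRing.map_maximalIdeal_of_surjective _ Ideal.Quotient.mk_surjective]
    exact Ideal.mem_map_of_mem _ ha
  have h2 : ringKrullDim (EGA4.FibRing (A ⧸ p) (B ⧸ P)) ≤ ringKrullDim (B ⧸ EGA4.mB A B) :=
    ringKrullDim_le_of_surjective (Ideal.Quotient.lift _ _ hle) (Ideal.Quotient.lift_surjective_of_surjective _ _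
      (Ideal.Quotient.mk_surjective.comp Ideal.Quotient.mk_surjective))
  have h3 := h.trans (add_le_add le_rfl h2)
  rw [coe_qd B P (Ideal.IsPrime.ne_top inferInstance), coe_qd A p (Ideal.IsPrime.ne_top inferInstance),
    coe_qd B (EGA4.mB A B) (fun ht => (maximalIdeal.isMaximal B).ne_top (top_le_iff.1
      (ht ▸ ((local_hom_TFAE (algebraMap A B)).out 0 2).1 (by infer_instance))))] at h3
  exact_mod_cast h3

theorem qd_eq_of_minimal (heq : EGA4.IsEquidim B) (hcat : CAlg.IsCatenary B) (p : Ideal A) [p.IsPrime]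
    {P : Ideal B} [P.IsPrime] (hP : P ∈ (p.map (algebraMap A B)).minimalPrimes) :
    qd B P = qd A p + qd B (EGA4.mB A B) := by
  have hover := under_eq_of_mem_minimalPrimes p hP
  refine le_antisymm ((qd_le A B P).trans (by rw [hover])) ?_
  obtain ⟨D, hD⟩ : ∃ D : ℕ, ringKrullDim B = D := ⟨qd B ⊥, by
    rw [← coe_qd B ⊥ bot_ne_top]; exact (ringKrullDim_eq_of_ringEquiv (RingEquiv.quotientBot B)).symm⟩
  obtain ⟨a, ha, haD⟩ := qd_add_height heq hcat hD P
  have h1 := FlatLoc6.ringKrullDim_add_fibre_le (A := A) (B := B) (fun q hq hne Q hQ => by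
    haveI := hq
    haveI := hQ.1.1
    rw [show Q.comap (algebraMap A B) = q from under_eq_of_mem_minimalPrimes q hQ]
    exact hne) p (le_maximalIdeal (Ideal.IsPrime.ne_top inferInstance))
  obtain ⟨P₁, hP₁, h2⟩ : ∃ P₁ ∈ (p.map (algebraMap A B)).minimalPrimes,
      ringKrullDim (B ⧸ p.map (algebraMap A B)) ≤ ringKrullDim (B ⧸ P₁) := by
    by_contra hne
    push Not at hne
    have hfin := Ideal.finite_minimalPrimes_of_isNoetherianRing B (p.map (algebraMap A B))
    obtain ⟨P₀, hP₀, hmax⟩ := hfin.exists_maximalFor (fun Q => ringKrullDim (B ⧸ Q)) _ ⟨P, hP⟩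
    refine (hne P₀ hP₀).not_ge ?_
    rw [ringKrullDim, Order.krullDim_eq_iSup_coheight]
    refine iSup_le fun x => ?_
    let π := Ideal.Quotient.mk (p.map (algebraMap A B))
    obtain ⟨P₂, hP₂, hle⟩ := Ideal.exists_minimalPrimes_le
      (Ideal.mk_ker.symm.le.trans (Ideal.ker_le_comap (f := π) (K := x.asIdeal)) :
        p.map (algebraMap A B) ≤ x.asIdeal.comap π)
    rw [VarDim.coheight_eq_ringKrullDim_quotient x]
    refine le_trans ?_ ((le_total _ _).elim id fun h' => hmax hP₂ h')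
    have hk : RingHom.ker ((Ideal.Quotient.mk x.asIdeal).comp π) = x.asIdeal.comap π := by
      rw [← RingHom.comap_ker, Ideal.mk_ker]
    exact ringKrullDim_le_of_surjective (Ideal.Quotient.lift P₂ ((Ideal.Quotient.mk x.asIdeal).comp π)
      fun b hb => by rw [← RingHom.mem_ker, hk]; exact hle hb)
      (Ideal.Quotient.lift_surjective_of_surjective _ _ (Ideal.Quotient.mk_surjective.comp Ideal.Quotient.mk_surjective))
  haveI := hP₁.1.1
  have hne' : EGA4.mB A B ≠ ⊤ := fun ht => (maximalIdeal.isMaximal B).ne_top (top_le_iff.1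
      (ht ▸ ((local_hom_TFAE (algebraMap A B)).out 0 2).1 (by infer_instance)))
  have h3 := h1.trans h2
  change ringKrullDim (A ⧸ p) + ringKrullDim (B ⧸ EGA4.mB A B) ≤ _ at h3
  rw [coe_qd A p (Ideal.IsPrime.ne_top inferInstance), coe_qd B _ hne',
    coe_qd B P₁ (Ideal.IsPrime.ne_top inferInstance)] at h3
  have h3' : qd A p + qd B (EGA4.mB A B) ≤ qd B P₁ := by exact_mod_cast h3
  obtain ⟨b, hb, hbD⟩ := qd_add_height heq hcat hD P₁
  have hab : (a : ℕ∞) = b := by
    rw [← ha, ← hb, height_eq_of_mem_minimalPrimes p hP, height_eq_of_mem_minimalPrimes p hP₁]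
  have : a = b := by exact_mod_cast hab
  omega

theorem exists_minimal_over (p : Ideal A) [p.IsPrime] : ∃ P ∈ (p.map (algebraMap A B)).minimalPrimes, P.IsPrime := by
  haveI : Module.FaithfullyFlat A B := Module.FaithfullyFlat.of_flat_of_isLocalHom
  obtain ⟨P, hP⟩ := Ideal.nonempty_minimalPrimes (I := p.map (algebraMap A B)) fun ht =>
    (Ideal.IsPrime.ne_top ‹p.IsPrime›) (by
      rw [← Ideal.comap_map_eq_self_of_faithfullyFlat (B := B) p, ht, Ideal.comap_top])
  exact ⟨P, hP, hP.1.1⟩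

theorem height_add_qd (heq : EGA4.IsEquidim B) (hcat : CAlg.IsCatenary B) {D : ℕ} (hD : ringKrullDim B = D)
    (p : Ideal A) [p.IsPrime] : ∃ a : ℕ, p.height = a ∧ qd A p + qd B (EGA4.mB A B) + a = D := by
  obtain ⟨P, hP, _⟩ := exists_minimal_over A B p
  obtain ⟨a, ha, h⟩ := qd_add_height heq hcat hD P
  rw [height_eq_of_mem_minimalPrimes p hP] at ha
  rw [qd_eq_of_minimal A B heq hcat p hP] at h
  exact ⟨a, ha, h⟩

include B in
/-- EGA IV 7.1.3: descent of equidimensionality and catenarity. -/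
theorem isEquidim_and_isCatenary (heq : EGA4.IsEquidim B) (hcat : CAlg.IsCatenary B) :
    EGA4.IsEquidim A ∧ CAlg.IsCatenary A := by
  obtain ⟨D, hD⟩ : ∃ D : ℕ, ringKrullDim B = D := ⟨qd B ⊥, by
    rw [← coe_qd B ⊥ bot_ne_top]; exact (ringKrullDim_eq_of_ringEquiv (RingEquiv.quotientBot B)).symm⟩
  constructor
  · refine (isEquidim_of_forall A ((D - qd B (EGA4.mB A B) : ℕ) : WithBot ℕ∞) fun x hx => ?_).1
    obtain ⟨a, ha, h⟩ := height_add_qd A B heq hcat hD x.asIdeal
    have h0 : a = 0 := by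
      have := Ideal.height_eq_zero_iff.2 hx
      rw [ha] at this
      exact_mod_cast this
    rw [coe_qd A x.asIdeal x.2.ne_top]
    exact_mod_cast (by omega : qd A x.asIdeal = D - qd B (EGA4.mB A B))
  refine isCatenary_of_fn (fun p => qd A p.asIdeal) (fun q p h => ?_) (fun q p h => ?_)
  · obtain ⟨a, ha, h1⟩ := height_add_qd A B heq hcat hD p.asIdeal
    obtain ⟨b, hb, h2⟩ := height_add_qd A B heq hcat hD q.asIdeal
    have h3 := Ideal.height_strict_mono_of_isPrime_of_isPrime (h : q.asIdeal < p.asIdeal)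
    rw [ha, hb] at h3
    have : b < a := by exact_mod_cast h3
    show qd A p.asIdeal < qd A q.asIdeal
    omega
  · show qd A p.asIdeal + 1 = qd A q.asIdeal
    obtain ⟨P, hP, hPp⟩ := exists_minimal_over A B p.asIdeal
    haveI := hPp
    have hover := under_eq_of_mem_minimalPrimes p.asIdeal hP
    haveI : P.LiesOver p.asIdeal := ⟨hover.symm⟩
    obtain ⟨Q', hQ'le, hQ'p, hQ'o⟩ := Ideal.exists_ideal_le_liesOver_of_le P (h.le : q.asIdeal ≤ p.asIdeal)
    obtain ⟨Q, hQ, hQle⟩ := Ideal.exists_minimalPrimes_le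
      (Ideal.map_le_iff_le_comap.2 hQ'o.over.le : q.asIdeal.map (algebraMap A B) ≤ Q')
    haveI := hQ.1.1
    have hQo := under_eq_of_mem_minimalPrimes q.asIdeal hQ
    have hQP : Q ≤ P := hQle.trans hQ'le
    have hle := (height_map_mk_le q.asIdeal p.asIdeal h.le Q P hP hover hQ.1.2 hQP).trans (height_map_mk_le_one h)
    have hcov : (⟨Q, inferInstance⟩ : PrimeSpectrum B) ⋖ ⟨P, inferInstance⟩ := by
      refine ⟨lt_of_le_of_ne hQP fun e => h.ne ?_, fun z hz hz' => ?_⟩
      · have e' : Q = P := congrArg PrimeSpectrum.asIdeal e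
        exact PrimeSpectrum.ext (by rw [← hQo, ← hover, e'])
      · let π := Ideal.Quotient.mk Q
        have hkz : RingHom.ker π ≤ z.asIdeal := Ideal.mk_ker.le.trans hz.le
        have hkP : RingHom.ker π ≤ P := Ideal.mk_ker.le.trans hQP
        haveI : (z.asIdeal.map π).IsPrime := Ideal.map_isPrime_of_surjective Ideal.Quotient.mk_surjective hkz
        haveI : (P.map π).IsPrime := Ideal.map_isPrime_of_surjective Ideal.Quotient.mk_surjective hkP
        have hcm : ∀ J : Ideal B, RingHom.ker π ≤ J → (J.map π).comap π = J := fun J hJ => by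
          rw [Ideal.comap_map_of_surjective π Ideal.Quotient.mk_surjective, ← RingHom.ker_eq_comap_bot,
            sup_eq_left.2 hJ]
        have h1 : (0 : ℕ∞) < (z.asIdeal.map π).height := by
          refine pos_iff_ne_zero.2 fun h0 => hz.not_ge ?_
          have hb := Ideal.height_eq_zero_iff_eq_bot.1 h0
          intro w hw
          exact Ideal.Quotient.eq_zero_iff_mem.1 ((Ideal.mem_bot).1 (hb ▸ Ideal.mem_map_of_mem π hw))
        have h2 : (z.asIdeal.map π).height < (P.map π).height := by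
          refine Ideal.height_strict_mono_of_isPrime_of_isPrime (lt_of_le_of_ne (Ideal.map_mono hz'.le) fun e => hz'.ne ?_)
          exact PrimeSpectrum.ext (by rw [← hcm _ hkz, e, hcm _ hkP])
        exact absurd hle (not_le.2 (lt_of_le_of_lt (Order.one_le_iff_pos.2 h1) h2))
    have e1 := qd_covBy hcat hcov
    rw [qd_eq_of_minimal A B heq hcat q.asIdeal hQ, qd_eq_of_minimal A B heq hcat p.asIdeal hP] at e1
    omega

/-- EGA IV 7.1.4: equidimensional quotients. -/
theorem isEquidim_quotient_map_iff (heq : EGA4.IsEquidim B) (hcat : CAlg.IsCatenary B) (a : Ideal A)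
    (ha : a ≠ ⊤) : EGA4.IsEquidim (B ⧸ a.map (algebraMap A B)) ↔ EGA4.IsEquidim (A ⧸ a) := by
  haveI : Module.FaithfullyFlat A B := Module.FaithfullyFlat.of_flat_of_isLocalHom
  have ha' : a.map (algebraMap A B) ≠ ⊤ := fun ht => ha (by
    rw [← Ideal.comap_map_eq_self_of_faithfullyFlat (B := B) a, ht, Ideal.comap_top])
  rw [isEquidim_quotient_iff _ ha', isEquidim_quotient_iff _ ha]
  have up : ∀ p ∈ a.minimalPrimes, ∃ P ∈ (a.map (algebraMap A B)).minimalPrimes,
      qd B P = qd A p + qd B (EGA4.mB A B) := by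
    intro p hp
    haveI := hp.1.1
    obtain ⟨P, hP, _⟩ := exists_minimal_over A B p
    refine ⟨P, ⟨⟨inferInstance, (Ideal.map_mono hp.1.2).trans hP.1.2⟩, fun K hK hle => ?_⟩,
      qd_eq_of_minimal A B heq hcat p hP⟩
    refine hP.2 ⟨hK.1, ?_⟩ hle
    haveI := hK.1
    rw [Ideal.map_le_iff_le_comap]
    exact hp.2 ⟨inferInstance, Ideal.map_le_iff_le_comap.1 hK.2⟩
      ((Ideal.comap_mono hle).trans (under_eq_of_mem_minimalPrimes p hP).le)
  have down : ∀ P ∈ (a.map (algebraMap A B)).minimalPrimes, ∃ p ∈ a.minimalPrimes,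
      qd B P = qd A p + qd B (EGA4.mB A B) := by
    intro P hP
    haveI := hP.1.1
    refine ⟨P.under A, ⟨⟨inferInstance, Ideal.map_le_iff_le_comap.1 hP.1.2⟩, fun q hq hle => ?_⟩,
      qd_eq_of_minimal A B heq hcat _ ⟨⟨inferInstance, Ideal.map_le_iff_le_comap.2 le_rfl⟩,
        fun K hK hle => hP.2 ⟨hK.1, (Ideal.map_mono (Ideal.map_le_iff_le_comap.1 hP.1.2)).trans hK.2⟩ hle⟩⟩
    haveI := hq.1
    haveI : P.LiesOver (P.under A) := ⟨rfl⟩
    obtain ⟨K, hKP, hK, hKo⟩ := Ideal.exists_ideal_le_liesOver_of_le P hle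
    have := hP.2 ⟨hK, (Ideal.map_mono hq.2).trans (Ideal.map_le_iff_le_comap.2 hKo.over.le)⟩ hKP
    exact (Ideal.comap_mono this).trans hKo.over.ge
  constructor
  · intro h p hp p' hp'
    obtain ⟨P, hP, e⟩ := up p hp
    obtain ⟨P', hP', e'⟩ := up p' hp'
    have := h P hP P' hP'
    omega
  · intro h P hP P' hP'
    obtain ⟨p, hp, e⟩ := down P hP
    obtain ⟨p', hp', e'⟩ := down P' hP'
    have := h p hp p' hp'
    omega

end Flat

section Completion

variable (A : Type u) [CommRing A] [IsNoetherianRing A] [IsLocalRing A]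

theorem isAdicComplete_cpl :
    haveI := FlatLoc6.isLocalRing_cpl A
    IsAdicComplete (maximalIdeal (EGA4.Cpl A)) (EGA4.Cpl A) := by
  haveI := FlatLoc6.isLocalRing_cpl A
  rw [AdicCompletion.maximalIdeal_eq_map_of_fg (IsNoetherian.noetherian (maximalIdeal A))]
  exact AdicCompletion.isAdicComplete_self _ (IsNoetherian.noetherian _)

theorem isFormallyEquidim_quotient_iff (a : Ideal A) [IsLocalRing (A ⧸ a)] :
    EGA4.IsFormallyEquidim (A ⧸ a) ↔ EGA4.IsEquidim (EGA4.Cpl A ⧸ a.map (algebraMap A (EGA4.Cpl A))) := by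
  obtain ⟨e⟩ := FormalFib6.exists_cplQuotEquiv A (A ⧸ a) Ideal.Quotient.mk_surjective
  let ε : (EGA4.Cpl A ⧸ a.map (algebraMap A (EGA4.Cpl A))) ≃+* EGA4.Cpl (A ⧸ a) :=
    ((Algebra.TensorProduct.quotIdealMapEquivTensorQuot (EGA4.Cpl A) a).toRingEquiv.trans
      (Algebra.TensorProduct.comm A (EGA4.Cpl A) (A ⧸ a)).toRingEquiv).trans e.toRingEquiv
  exact ⟨fun h => isEquidim_of_ringEquiv ε.symm h, fun h => isEquidim_of_ringEquiv ε h⟩

theorem ringKrullDim_cpl_quotient (a : Ideal A) [IsLocalRing (A ⧸ a)] :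
    ringKrullDim (EGA4.Cpl A ⧸ a.map (algebraMap A (EGA4.Cpl A))) = ringKrullDim (A ⧸ a) := by
  obtain ⟨e⟩ := FormalFib6.exists_cplQuotEquiv A (A ⧸ a) Ideal.Quotient.mk_surjective
  rw [← S0547.result (A ⧸ a)]
  exact ringKrullDim_eq_of_ringEquiv
    (((Algebra.TensorProduct.quotIdealMapEquivTensorQuot (EGA4.Cpl A) a).toRingEquiv.trans
      (Algebra.TensorProduct.comm A (EGA4.Cpl A) (A ⧸ a)).toRingEquiv).trans e.toRingEquiv)

theorem isEquidim_quotient_prime (p : Ideal A) [p.IsPrime] : EGA4.IsEquidim (A ⧸ p) := by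
  rw [isEquidim_quotient_iff p (Ideal.IsPrime.ne_top inferInstance)]
  intro q hq q' hq'
  rw [le_antisymm (hq.2 ⟨inferInstance, le_rfl⟩ hq.1.2) hq.1.2,
    le_antisymm (hq'.2 ⟨inferInstance, le_rfl⟩ hq'.1.2) hq'.1.2]

theorem isEquidim_and_isCatenary_of_formallyEquidim (h : EGA4.IsFormallyEquidim A) :
    EGA4.IsEquidim A ∧ CAlg.IsCatenary A := by
  haveI := FlatLoc6.isLocalRing_cpl A
  haveI := FlatLoc6.isNoetherianRing_cpl A
  haveI := FlatLoc6.faithfullyFlat_cpl A
  haveI := isAdicComplete_cpl A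
  exact isEquidim_and_isCatenary A (EGA4.Cpl A) h isCatenary_of_complete

theorem isEquidim_quotient_iff_formallyEquidim (h : EGA4.IsFormallyEquidim A) (a : Ideal A)
    [IsLocalRing (A ⧸ a)] : EGA4.IsEquidim (A ⧸ a) ↔ EGA4.IsFormallyEquidim (A ⧸ a) := by
  haveI := FlatLoc6.isLocalRing_cpl A
  haveI := FlatLoc6.isNoetherianRing_cpl A
  haveI := FlatLoc6.faithfullyFlat_cpl A
  haveI := isAdicComplete_cpl A
  rw [isFormallyEquidim_quotient_iff]
  exact (isEquidim_quotient_map_iff A (EGA4.Cpl A) h isCatenary_of_complete a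
    (Ideal.Quotient.nontrivial_iff.1 inferInstance)).symm

/-- EGA IV 7.1.7: formal equidimensionality is detected on the irreducible components. -/
theorem isFormallyEquidim_iff :
    EGA4.IsFormallyEquidim A ↔
      (EGA4.IsEquidim A ∧ ∀ (p : Ideal A) [p.IsPrime], p ∈ minimalPrimes A → EGA4.IsFormallyEquidim (A ⧸ p)) := by
  haveI := FlatLoc6.isLocalRing_cpl A
  haveI := FlatLoc6.isNoetherianRing_cpl A
  haveI := FlatLoc6.faithfullyFlat_cpl A
  refine ⟨fun h => ⟨(isEquidim_and_isCatenary_of_formallyEquidim A h).1, fun p _ _ => ?_⟩, fun h => ?_⟩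
  · haveI : IsLocalRing (A ⧸ p) := .of_surjective' _ Ideal.Quotient.mk_surjective
    exact (isEquidim_quotient_iff_formallyEquidim A h p).1 (isEquidim_quotient_prime A p)
  refine (isEquidim_of_forall _ (ringKrullDim A) fun x hx => ?_).1
  let π := fun a : Ideal A => a.map (algebraMap A (EGA4.Cpl A))
  let p := x.asIdeal.under A
  have hp : p ∈ minimalPrimes A := by
    refine ⟨⟨inferInstance, bot_le⟩, fun q hq hle => ?_⟩
    haveI := hq.1
    haveI : x.asIdeal.LiesOver p := ⟨rfl⟩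
    obtain ⟨K, hKx, hK, hKo⟩ := Ideal.exists_ideal_le_liesOver_of_le x.asIdeal hle
    exact (Ideal.comap_mono (hx.2 ⟨hK, bot_le⟩ hKx)).trans hKo.over.ge
  haveI : IsLocalRing (A ⧸ p) := .of_surjective' _ Ideal.Quotient.mk_surjective
  have h1 := (isFormallyEquidim_quotient_iff A p).1 (h.2 p hp)
  have hle : π p ≤ x.asIdeal := Ideal.map_le_iff_le_comap.2 le_rfl
  have hk : RingHom.ker (Ideal.Quotient.mk (π p)) ≤ x.asIdeal := Ideal.mk_ker.le.trans hle
  have hcm : (x.asIdeal.map (Ideal.Quotient.mk (π p))).comap (Ideal.Quotient.mk (π p)) = x.asIdeal := by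
    rw [Ideal.comap_map_of_surjective _ Ideal.Quotient.mk_surjective, ← RingHom.ker_eq_comap_bot, sup_eq_left.2 hk]
  have hxm : x.asIdeal.map (Ideal.Quotient.mk (π p)) ∈ minimalPrimes (EGA4.Cpl A ⧸ π p) := by
    refine ⟨⟨Ideal.map_isPrime_of_surjective Ideal.Quotient.mk_surjective hk, bot_le⟩, fun y hy hle' => ?_⟩
    haveI := hy.1
    have h2 := hx.2 ⟨inferInstance, bot_le⟩ ((Ideal.comap_mono hle').trans hcm.le)
    exact Ideal.map_le_iff_le_comap.2 h2
  have e := h1 _ hxm
  rw [ringKrullDim_cpl_quotient, h.1 p hp] at e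
  rw [← e]
  have hk' : RingHom.ker ((Ideal.Quotient.mk (x.asIdeal.map (Ideal.Quotient.mk (π p)))).comp
      (Ideal.Quotient.mk (π p))) = x.asIdeal := by
    rw [← RingHom.comap_ker, Ideal.mk_ker, hcm]
  exact ringKrullDim_eq_of_ringEquiv ((Ideal.quotEquivOfEq hk'.symm).trans
    (RingHom.quotientKerEquivOfSurjective (Ideal.Quotient.mk_surjective.comp Ideal.Quotient.mk_surjective)))

end Completion

end Groth.Agent.FormCat
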