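import Groth.Agent.FormCat.HenselDomain
import Groth.Agent.IntBC.Closure2
import Groth.Agent.GeomSep.Basic

/-!
# Geometric connectedness of formal fibres of henselian rings
-/

set_option linter.style.haveILetI false

namespace Groth.Agent.FormCat

universe u

open IsLocalRing TensorProduct

/-- Connected spectrum from trivial idempotents. -/
theorem connectedSpace_of_idem (T : Type u) [CommRing T] [Nontrivial T]
    (h : ∀ e : T, IsIdempotentElem e → e = 0 ∨ e = 1) : ConnectedSpace (PrimeSpectrum T) := by
  rw [connectedSpace_iff_clopen]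
  refine ⟨inferInstance, fun s hs => ?_⟩
  obtain ⟨e, he, rfl⟩ := PrimeSpectrum.isClopen_iff.mp hs
  rcases h e he with rfl | rfl
  · left
    simp
  · right
    simp

/-- A local ring has only trivial idempotents. -/
theorem idem_of_isLocalRing (T : Type u) [CommRing T] [IsLocalRing T] (e : T) (he : IsIdempotentElem e) :
    e = 0 ∨ e = 1 := by
  rcases IsLocalRing.isUnit_or_isUnit_one_sub_self e with h | h
  · exact Or.inr (h.mul_left_cancel (he.eq.trans (mul_one e).symm))
  · refine Or.inl (h.mul_left_cancel ?_)
    rw [mul_zero, sub_mul, one_mul, he.eq, sub_self]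

/-- Trivial idempotents pass through isomorphisms. -/
theorem idem_of_equiv {T T' : Type u} [CommRing T] [CommRing T'] (f : T ≃+* T')
    (h : ∀ e : T', IsIdempotentElem e → e = 0 ∨ e = 1) (e : T) (he : IsIdempotentElem e) : e = 0 ∨ e = 1 := by
  rcases h (f e) (he.map f) with h | h
  · exact Or.inl (f.injective (h.trans (map_zero f).symm))
  · exact Or.inr (f.injective (h.trans (map_one f).symm))

/-- Trivial idempotents over the fraction field of a finite domain. -/
theorem idem_tensor_fractionRing (A : Type u) [CommRing A] [IsNoetherianRing A] [HenselianLocalRing A]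
    (hA : EGA4.HasGeomReducedFormalFibres A) (C : Type u) [CommRing C] [IsDomain C] [Algebra A C] [Module.Finite A C]
    (e : EGA4.Cpl A ⊗[A] FractionRing C) (he : IsIdempotentElem e) : e = 0 ∨ e = 1 := by
  haveI := isLocalRing_of_finite_domain A C
  haveI : IsNoetherianRing C := Algebra.FiniteType.isNoetherianRing A C
  let K := FractionRing C
  let R' := integralClosure C K
  have hredC := CplFib6.hasGeomReducedFormalFibres_of_essFiniteType A hA C
  haveI : Module.Finite C R' := CompleteNagata.isN2_of_geomReduced C hredC K inferInstance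
  haveI : Module.Finite A R' := Module.Finite.trans C R'
  haveI := isLocalRing_of_finite_domain A R'
  haveI := FlatLoc6.isLocalRing_cpl A
  haveI := FlatLoc6.isNoetherianRing_cpl A
  haveI := FlatLoc6.faithfullyFlat_cpl A
  haveI := isLocalRing_cpl_tensor A R'
  have hint : IsIntegral ↥(Algebra.TensorProduct.map (AlgHom.id (EGA4.Cpl A) (EGA4.Cpl A))
      (IsScalarTower.toAlgHom A C K)).range e :=
    ⟨Polynomial.X ^ 2 - Polynomial.X, Polynomial.monic_X_pow_sub (by simp), by
      simp [sq, he.eq]⟩
  obtain ⟨t, ht⟩ := (IntBC.integralClosure_baseChange_rel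
    (fun L _ _ => FlatLoc6.isReduced_baseChange_field (A := A) (EGA4.Cpl A) (fun p _ => hA p) L) C K e).mp hint
  have hinj : Function.Injective (Algebra.TensorProduct.map (AlgHom.id (EGA4.Cpl A) (EGA4.Cpl A))
      ((integralClosure C K).val.restrictScalars A)) :=
    Module.Flat.lTensor_preserves_injective_linearMap (M := EGA4.Cpl A)
      ((integralClosure C K).val.restrictScalars A).toLinearMap Subtype.val_injective
  have ht2 : IsIdempotentElem t := hinj (by rw [map_mul, ht, he.eq])
  rcases idem_of_isLocalRing (EGA4.Cpl A ⊗[A] R') t ht2 with rfl | rfl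
  · exact Or.inl (ht ▸ map_zero _)
  · exact Or.inr (ht ▸ map_one _)

/-- Formal fibres of a henselian ring stay connected over finite extensions. -/
theorem idem_formalFibre_finite (A : Type u) [CommRing A] [IsNoetherianRing A] [HenselianLocalRing A]
    (hA : EGA4.HasGeomReducedFormalFibres A) (p : Ideal A) [p.IsPrime] (L : Type u) [Field L] [Algebra p.ResidueField L]
    [Module.Finite p.ResidueField L] (e : L ⊗[p.ResidueField] EGA4.formalFibre A p) (he : IsIdempotentElem e) :
    e = 0 ∨ e = 1 := by
  letI : Algebra A L := ((algebraMap p.ResidueField L).comp (algebraMap A p.ResidueField)).toAlgebra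
  haveI : IsScalarTower A p.ResidueField L := IsScalarTower.of_algebraMap_eq' rfl
  obtain ⟨C, hCfin, hCfr⟩ := RegFS6.exists_order_residue p L
  haveI := hCfin
  haveI := hCfr
  let f : FractionRing C ≃ₐ[A] L := (FractionRing.algEquiv C L).restrictScalars A
  let φ : L ⊗[p.ResidueField] EGA4.formalFibre A p ≃+* EGA4.Cpl A ⊗[A] FractionRing C :=
    ((Algebra.TensorProduct.cancelBaseChange A p.ResidueField L L (EGA4.Cpl A)).toRingEquiv.trans
      (Algebra.TensorProduct.comm A L (EGA4.Cpl A)).toRingEquiv).trans
      (Algebra.TensorProduct.congr (AlgEquiv.refl (R := A) (A₁ := EGA4.Cpl A)) f.symm).toRingEquiv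
  exact idem_of_equiv φ (idem_tensor_fractionRing A hA C) e he

/-- Trivial idempotents over finite extensions give geometric connectedness. -/
theorem geometricallyConnected_of_finite (k S : Type u) [Field k] [CommRing S] [Algebra k S] [Nontrivial S]
    (h : ∀ (L : Type u) [Field L] [Algebra k L], Module.Finite k L →
      ∀ e : L ⊗[k] S, IsIdempotentElem e → e = 0 ∨ e = 1)
    (K : Type u) [Field K] [Algebra k K] : ConnectedSpace (PrimeSpectrum (K ⊗[k] S)) := by
  classical
  let kb := AlgebraicClosure k
  have hrange : ∀ z : kb ⊗[k] S, ∃ t : Finset kb, ∀ L : IntermediateField k kb, (↑t : Set kb) ⊆ L →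
      z ∈ Set.range (Algebra.TensorProduct.map L.val (AlgHom.id k S)) := fun z => by
    induction z using TensorProduct.induction_on with
    | zero => exact ⟨∅, fun L _ => ⟨0, map_zero _⟩⟩
    | tmul a s => exact ⟨{a}, fun L hL => ⟨(⟨a, hL (by simp)⟩ : L) ⊗ₜ s, by simp⟩⟩
    | add x y hx hy =>
      obtain ⟨tx, hx⟩ := hx
      obtain ⟨ty, hy⟩ := hy
      refine ⟨tx ∪ ty, fun L hL => ?_⟩
      rw [Finset.coe_union, Set.union_subset_iff] at hL
      obtain ⟨u, hu⟩ := hx L hL.1
      obtain ⟨v, hv⟩ := hy L hL.2
      exact ⟨u + v, by rw [map_add, hu, hv]⟩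
  haveI : Nontrivial (kb ⊗[k] S) := Algebra.TensorProduct.nontrivial_of_algebraMap_injective_of_flat_right k kb S
    (algebraMap k kb).injective
  haveI : ConnectedSpace (PrimeSpectrum (kb ⊗[k] S)) := connectedSpace_of_idem _ fun e he => by
    obtain ⟨t, ht⟩ := hrange e
    let L : IntermediateField k kb := IntermediateField.adjoin k (↑t : Set kb)
    haveI : Module.Finite k L := IntermediateField.finiteDimensional_adjoin fun z _ => Algebra.IsIntegral.isIntegral z
    obtain ⟨u, rfl⟩ := ht L (IntermediateField.subset_adjoin _ _)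
    have hinj : Function.Injective (Algebra.TensorProduct.map L.val (AlgHom.id k S)) :=
      Module.Flat.rTensor_preserves_injective_linearMap (M := S) L.val.toLinearMap Subtype.val_injective
    rcases h L inferInstance u (hinj (by rw [map_mul, he.eq])) with rfl | rfl
    · exact Or.inl (map_zero _)
    · exact Or.inr (map_one _)
  exact GeomSep.geometricallyConnected_of_isSepClosed (k := k) (R := S) kb K

/-- Geometric connectedness of the formal fibres. -/
theorem connectedSpace_formalFibre (A : Type u) [CommRing A] [IsNoetherianRing A] [HenselianLocalRing A]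
    (hA : EGA4.HasGeomReducedFormalFibres A) (K : Type u) [Field K] [Algebra A K] :
    ConnectedSpace (PrimeSpectrum (K ⊗[A] EGA4.Cpl A)) := by
  haveI : (RingHom.ker (algebraMap A K)).IsPrime := RingHom.ker_isPrime _
  let p := RingHom.ker (algebraMap A K)
  obtain ⟨_, _⟩ := FlatLoc6.exists_residueAlgebra (L := K) p rfl
  haveI := FlatLoc6.faithfullyFlat_cpl A
  haveI : Nontrivial (p.Fiber (EGA4.Cpl A)) := inferInstance
  haveI := geometricallyConnected_of_finite p.ResidueField (EGA4.formalFibre A p)
    (fun L _ _ hL e he => haveI := hL; idem_formalFibre_finite A hA p L e he) K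
  exact GeomSep.connectedSpace_of_equiv
    (Algebra.TensorProduct.cancelBaseChange A p.ResidueField K K (EGA4.Cpl A)).symm.toRingEquiv

end Groth.Agent.FormCat
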