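import Groth.Agent.FormalFib6.Transfer
import Groth.Agent.FormalFib6.Cplt
import Groth.Agent.FlatLoc6.BaseChangeEss
import Groth.Agent.IntBC.Main
import Groth.Agent.FormCat.GeomConnected

/-!
# An adic completion over the localization at `1 + J`
-/

set_option linter.style.haveILetI false

namespace Groth.Agent.FormCat

universe u

open TensorProduct

variable (A : Type u) [CommRing A] [IsNoetherianRing A] (J : Ideal A)

/-- The localization at `1 + J` maps faithfully flatly to the completion. -/
theorem exists_onePlus (hJ : J ≠ ⊤) (T : Submonoid A) (hT : T = MonoidHom.mker (Ideal.Quotient.mk J)) :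
    ∃ _ : Algebra (Localization T) (AdicCompletion J A),
      IsScalarTower A (Localization T) (AdicCompletion J A) ∧
        Module.FaithfullyFlat (Localization T) (AdicCompletion J A) ∧
        Nonempty (Localization T ⊗[A] AdicCompletion J A ≃ₐ[Localization T] AdicCompletion J A) := by
  let Ah := AdicCompletion J A
  have fg : J.FG := IsNoetherian.noetherian _
  haveI := AdicCompletion.isAdicComplete_self J fg
  have hjac := IsAdicComplete.le_jacobson_bot (J.map (algebraMap A Ah))
  have hmem : ∀ t : A, t ∈ T ↔ t - 1 ∈ J := fun t => by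
    rw [hT, MonoidHom.mem_mker, ← Ideal.Quotient.eq, map_one]
  have hu : ∀ t : T, IsUnit (algebraMap A Ah t) := fun t => by
    have h1 : algebraMap A Ah ((t : A) - 1) ∈ Ideal.jacobson (⊥ : Ideal Ah) :=
      hjac (Ideal.mem_map_of_mem _ ((hmem t).mp t.2))
    have h2 := Ideal.mem_jacobson_bot.mp h1 1
    rwa [mul_one, map_sub, map_one, sub_add_cancel] at h2
  letI : Algebra (Localization T) Ah := (IsLocalization.lift hu).toAlgebra
  haveI : IsScalarTower A (Localization T) Ah := IsScalarTower.of_algebraMap_eq fun a => (IsLocalization.lift_eq hu a).symm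
  haveI : Module.Flat A Ah := AdicCompletion.flat_of_isNoetherian J
  haveI : Module.Flat (Localization T) Ah :=
    (Module.flat_iff_of_isLocalization (Localization T) T Ah).mpr inferInstance
  refine ⟨inferInstance, inferInstance, { submodule_ne_top := fun m hm htop => ?_ }, ?_⟩
  · let p := m.comap (algebraMap A (Localization T))
    have hpT : ∀ t ∈ T, t ∉ p := fun t ht htp => hm.ne_top
      (Ideal.eq_top_of_isUnit_mem _ htp (IsLocalization.map_units (Localization T) ⟨t, ht⟩))
    have hne : p ⊔ J ≠ ⊤ := fun h => by
      obtain ⟨a, ha, j, hj, haj⟩ := Submodule.mem_sup.mp ((Ideal.eq_top_iff_one _).mp h)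
      refine hpT a ((hmem a).mpr ?_) ha
      rw [show a - 1 = -j by linear_combination haj]
      exact J.neg_mem hj
    obtain ⟨M, hM, hpM⟩ := Ideal.exists_le_maximal _ hne
    have hd : Disjoint (T : Set A) (M : Set A) := Set.disjoint_left.mpr fun t ht htM =>
      hM.ne_top ((Ideal.eq_top_iff_one _).mpr (by
        simpa using M.sub_mem htM (hpM (Ideal.mem_sup_right ((hmem t).mp ht)))))
    haveI := hM.isPrime
    have hmM : m = M.map (algebraMap A (Localization T)) := by
      refine hm.eq_of_le (IsLocalization.isPrime_of_isPrime_disjoint T _ M inferInstance hd).ne_top ?_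
      conv_lhs => rw [← IsLocalization.map_comap T (Localization T) m]
      exact Ideal.map_mono (le_sup_left.trans hpM)
    have h1 : M.map (algebraMap A Ah) = ⊤ := by
      rw [Ideal.smul_top_eq_map, hmM, Ideal.map_map, ← IsScalarTower.algebraMap_eq] at htop
      exact (Submodule.restrictScalars_eq_top_iff (Localization T) _ _).mp htop
    have h2 := congrArg (Ideal.map (AdicCompletion.evalOneₐ J).toRingHom) h1
    rw [Ideal.map_map, Ideal.map_top, AdicCompletion.evalOneₐ_comp_algebraMap_eq_mk] at h2
    exact hM.ne_top (by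
      have h3 := congrArg (Ideal.comap (Ideal.Quotient.mk J)) h2
      rwa [Ideal.comap_map_of_surjective _ Ideal.Quotient.mk_surjective, Ideal.comap_top, ← RingHom.ker_eq_comap_bot,
        Ideal.mk_ker, sup_eq_left.mpr (le_sup_right.trans hpM)] at h3)
  · haveI := IsLocalization.tensorProduct_compatibleSMul T (Localization T) (Localization T) Ah
    haveI := IsLocalization.tensorProduct_compatibleSMul T (Localization T) Ah Ah
    exact ⟨Algebra.TensorProduct.lidOfCompatibleSMul A (Localization T) Ah⟩

/-- Connectedness modulo the ideal of a complete ring. -/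
theorem idem_adicCompletion_iff (hJ : J ≠ ⊤) :
    (∀ e : AdicCompletion J A, IsIdempotentElem e → e = 0 ∨ e = 1) ↔ ConnectedSpace (PrimeSpectrum (A ⧸ J)) := by
  let Ah := AdicCompletion J A
  have fg : J.FG := IsNoetherian.noetherian _
  haveI := AdicCompletion.isAdicComplete_self J fg
  haveI : Nontrivial (A ⧸ J) := Ideal.Quotient.nontrivial_iff.mpr hJ
  let ev : Ah →+* A ⧸ J := (AdicCompletion.evalOneₐ J).toRingHom
  have hev : Function.Surjective ev := AdicCompletion.evalOneₐ_surjective J
  have hker : RingHom.ker ev = J.map (algebraMap A Ah) := AdicCompletion.ker_evalOneₐ_eq_map J fg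
  have hjac : RingHom.ker ev ≤ Ideal.jacobson ⊥ := hker.le.trans (IsAdicComplete.le_jacobson_bot _)
  constructor
  · intro h
    haveI : HenselianRing Ah (J.map (algebraMap A Ah)) := inferInstance
    refine connectedSpace_of_idem _ fun e he => ?_
    obtain ⟨x, rfl⟩ := hev e
    have h1 : Ideal.Quotient.mk (J.map (algebraMap A Ah)) x ∈ {y | IsIdempotentElem y} := by
      show Ideal.Quotient.mk _ x * Ideal.Quotient.mk _ x = Ideal.Quotient.mk _ x
      rw [← map_mul, Ideal.Quotient.eq, ← hker, RingHom.mem_ker, map_sub, map_mul, he.eq, sub_self]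
    have hb := (Hensel.bijOn_idempotents_of_isIntegral (J.map (algebraMap A Ah)) Ah).surjOn
    rw [show (J.map (algebraMap A Ah)).map (algebraMap Ah Ah) = J.map (algebraMap A Ah) from Ideal.map_id _] at hb
    obtain ⟨y, hy, hyx⟩ := hb h1
    have hyx' : ev y = ev x := by
      rw [← sub_eq_zero, ← map_sub, ← RingHom.mem_ker, hker]
      exact Ideal.Quotient.eq.mp hyx
    rcases h y hy with rfl | rfl
    · exact Or.inl (by rw [← hyx', map_zero])
    · exact Or.inr (by rw [← hyx', map_one])
  · intro hc e he
    have key : ∀ z : Ah, IsIdempotentElem z → ev z = 0 → z = 0 := fun z hz h0 => by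
      have h2 := Ideal.mem_jacobson_bot.mp (hjac h0) (-1)
      rw [mul_neg, mul_one, neg_add_eq_sub] at h2
      refine h2.mul_left_cancel ?_
      rw [mul_zero, sub_mul, one_mul, hz.eq, sub_self]
    have hid := he.map ev
    have h3 := (connectedSpace_iff_clopen.mp hc).2 _ (PrimeSpectrum.isClopen_iff.mpr ⟨ev e, hid, rfl⟩)
    rcases h3 with h3 | h3
    · refine Or.inl (key e he (hid.eq_zero_of_isNilpotent ?_))
      have h4 := PrimeSpectrum.basicOpen_eq_bot_iff (ev e)
      exact h4.mp (TopologicalSpace.Opens.ext (by simpa using h3))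
    · refine Or.inr ?_
      have h4 : IsUnit (ev e) := by
        by_contra hnu
        obtain ⟨M, hM, hMe⟩ := exists_max_ideal_of_mem_nonunits hnu
        have h6 : (⟨M, hM.isPrime⟩ : PrimeSpectrum (A ⧸ J)) ∈ (PrimeSpectrum.basicOpen (ev e) : Set _) :=
          h3 ▸ Set.mem_univ _
        exact h6 hMe
      have h5 : ev (1 - e) = 0 := by
        rw [map_sub, map_one, sub_eq_zero]
        exact (h4.mul_left_cancel (hid.eq.trans (mul_one _).symm)).symm
      exact (sub_eq_zero.mp (key _ he.one_sub h5)).symm

/-- A connected Noetherian normal ring is a domain. -/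
theorem isDomain_of_normal_of_idem (R : Type u) [CommRing R] [IsNoetherianRing R] [Nontrivial R]
    (hn : EGA4.IsNormalRing R) (h : ∀ e : R, IsIdempotentElem e → e = 0 ∨ e = 1) : IsDomain R := by
  haveI : NoZeroDivisors R := ⟨fun {a b} hab => by
    obtain ⟨e, he, hea, heb⟩ := IntBC.idemSep_of_noetherian hn a b hab
    rcases h e he with rfl | rfl
    · exact Or.inr (by rw [← heb, zero_mul])
    · exact Or.inl (by rw [← hea, one_mul])⟩
  exact NoZeroDivisors.to_isDomain R

end Groth.Agent.FormCat
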