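import Groth.Agent.FormCat.CM
import Groth.Agent.CompleteNagata.Unramified
import Groth.Agent.FlatLoc6.GeomRed
import Groth.Agent.S2670
import Groth.Agent.S4754
import Groth.Prelude.Def_CAlg2
import Mathlib.RingTheory.Localization.Away.Basic

/-!
# Unibranch local rings with geometrically normal formal fibres are universally catenary
-/

set_option autoImplicit false
set_option linter.style.haveILetI false

open IsLocalRing TensorProduct

namespace Groth.Agent.FormCat

universe u

theorem isDomain_of_isNormalRing_local (T : Type u) [CommRing T] [IsLocalRing T] (h : EGA4.IsNormalRing T) :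
    IsDomain T := by
  obtain ⟨hd, -⟩ := h (maximalIdeal T)
  haveI := hd
  let e := IsLocalization.atUnits T (maximalIdeal T).primeCompl (S := Localization.AtPrime (maximalIdeal T))
    fun s hs => notMem_maximalIdeal.1 hs
  exact e.toRingEquiv.toMulEquiv.isDomain

/-- The completed normalization of a local ring with local finite normalization is local. -/
theorem isLocalRing_cpl_tensor (R : Type u) [CommRing R] [IsNoetherianRing R] [IsLocalRing R] (S : Type u)
    [CommRing S] [IsLocalRing S] [Algebra R S] [Module.Finite R S] : IsLocalRing (EGA4.Cpl R ⊗[R] S) := by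
  haveI := FlatLoc6.isLocalRing_cpl R
  haveI := FlatLoc6.faithfullyFlat_cpl R
  let C := EGA4.Cpl R
  let T := C ⊗[R] S
  haveI : Nontrivial T := inferInstance
  have fg : (maximalIdeal R).FG := IsNoetherian.noetherian _
  have hdense : ∀ c : C, ∃ r : R, c - algebraMap R C r ∈ maximalIdeal C := fun c => by
    obtain ⟨r, hr⟩ := Submodule.mkQ_surjective _ (AdicCompletion.eval (maximalIdeal R) R 1 c)
    refine ⟨r, ?_⟩
    rw [AdicCompletion.maximalIdeal_eq_map_of_fg fg]
    refine Ideal.map_mono (pow_one (maximalIdeal R)).le ?_
    rw [← LocalCrit.smul_top_eq_map, AdicCompletion.pow_smul_top_eq_ker_eval fg, LinearMap.mem_ker, map_sub, ← hr,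
      sub_eq_zero]
    exact (AdicCompletion.eval_of _ _ 1 r).symm
  let ι : S →+* T := (Algebra.TensorProduct.includeRight (R := R) (A := C) (B := S)).toRingHom
  have key : ∀ M : Ideal T, M.IsMaximal → M = ((maximalIdeal C).map (algebraMap C T) ⊔ (maximalIdeal S).map ι) := by
    intro M hM
    have hMC : maximalIdeal C ≤ M.comap (algebraMap C T) :=
      (eq_maximalIdeal (Ideal.isMaximal_comap_of_isIntegral_of_isMaximal M)).ge
    have hMS : M.comap ι = maximalIdeal S := by
      haveI : (M.comap ι).IsPrime := Ideal.IsPrime.comap ι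
      refine le_antisymm (le_maximalIdeal (Ideal.IsPrime.ne_top inferInstance)) ?_
      have h1 : maximalIdeal R ≤ (M.comap ι).comap (algebraMap R S) := fun r hr => by
        show ι (algebraMap R S r) ∈ M
        rw [show ι (algebraMap R S r) = algebraMap R T r from AlgHom.commutes _ r,
          IsScalarTower.algebraMap_apply R C T]
        refine hMC ?_
        rw [AdicCompletion.maximalIdeal_eq_map_of_fg fg]
        exact Ideal.mem_map_of_mem _ hr
      haveI : ((M.comap ι).comap (algebraMap R S)).IsMaximal := by
        rw [← (maximalIdeal.isMaximal R).eq_of_le (Ideal.IsPrime.ne_top inferInstance) h1]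
        infer_instance
      exact (eq_maximalIdeal (Ideal.isMaximal_of_isIntegral_of_isMaximal_comap (R := R) (M.comap ι) inferInstance)).ge
    refine le_antisymm (fun w hw => ?_) (sup_le (Ideal.map_le_iff_le_comap.2 hMC)
      (Ideal.map_le_iff_le_comap.2 hMS.ge))
    obtain ⟨s, hs⟩ : ∃ s : S, w - ι s ∈ (maximalIdeal C).map (algebraMap C T) := by
      clear hw
      induction w using TensorProduct.induction_on with
      | zero => exact ⟨0, by simp⟩
      | add x y hx hy =>
        obtain ⟨a, ha⟩ := hx
        obtain ⟨b, hb⟩ := hy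
        exact ⟨a + b, by rw [map_add]; simpa [add_sub_add_comm] using add_mem ha hb⟩
      | tmul c s =>
        obtain ⟨r, hr⟩ := hdense c
        refine ⟨r • s, ?_⟩
        have : c ⊗ₜ[R] s - ι (r • s) = algebraMap C T (c - algebraMap R C r) * ((1 : C) ⊗ₜ[R] s) := by
          show c ⊗ₜ[R] s - (1 : C) ⊗ₜ[R] (r • s) = _
          rw [Algebra.TensorProduct.algebraMap_apply, Algebra.algebraMap_self, RingHom.id_apply,
            Algebra.TensorProduct.tmul_mul_tmul, mul_one, one_mul, TensorProduct.sub_tmul,
            Algebra.algebraMap_eq_smul_one, TensorProduct.smul_tmul]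
        rw [this]
        exact Ideal.mul_mem_right _ _ (Ideal.mem_map_of_mem _ hr)
    have h2 : ι s ∈ M := by
      have := sub_mem hw (Ideal.map_le_iff_le_comap.2 hMC hs)
      rwa [sub_sub_cancel] at this
    rw [← sub_add_cancel w (ι s)]
    exact Submodule.add_mem_sup hs (Ideal.mem_map_of_mem _ (hMS.le (Ideal.mem_comap.2 h2)))
  obtain ⟨M, hM⟩ := Ideal.exists_maximal T
  exact IsLocalRing.of_unique_max_ideal ⟨M, hM, fun M' hM' => (key M' hM').trans (key M hM).symm⟩

/-- A local domain with local normalization and geometrically normal formal fibres is analytically irreducible. -/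
theorem isDomain_cpl (R : Type u) [CommRing R] [IsDomain R] [IsNoetherianRing R] [IsLocalRing R]
    (hR : EGA4.HasGeomNormalFormalFibres R) (hloc : IsLocalRing (integralClosure R (FractionRing R))) :
    IsDomain (EGA4.Cpl R) := by
  haveI := FlatLoc6.isLocalRing_cpl R
  haveI := FlatLoc6.isNoetherianRing_cpl R
  haveI := FlatLoc6.faithfullyFlat_cpl R
  let K := FractionRing R
  let R' := integralClosure R K
  have hred : EGA4.HasGeomReducedFormalFibres R := fun p _ => FlatLoc6.geomReduced_of_isGeomNormal (hR p)
  haveI : Module.Finite R R' := CompleteNagata.isN2_of_geomReduced R hred K inferInstance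
  haveI : IsFractionRing R' K := integralClosure.isFractionRing_of_finite_extension K K
  haveI : IsIntegrallyClosed R' := integralClosure.isIntegrallyClosedOfFiniteExtension K
  haveI : IsNoetherianRing R' := IsNoetherianRing.of_finite R R'
  haveI := hloc
  have hnorm : EGA4.IsNormalRing R' := fun p _ =>
    ⟨IsLocalization.isDomain_localization p.primeCompl_le_nonZeroDivisors,
      isIntegrallyClosed_of_isLocalization _ p.primeCompl p.primeCompl_le_nonZeroDivisors⟩
  haveI := isLocalRing_cpl_tensor R R'
  haveI := isDomain_of_isNormalRing_local _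
    (S2670.result R (EGA4.Cpl R) ⟨inferInstance, hR⟩ R' hnorm)
  have hinj : Function.Injective (Algebra.linearMap R R') := fun a b h =>
    IsFractionRing.injective R K (congrArg (fun z : R' => (z : K)) h)
  have h1 := Module.Flat.lTensor_preserves_injective_linearMap (M := EGA4.Cpl R) _ hinj
  let i : EGA4.Cpl R →+* EGA4.Cpl R ⊗[R] R' := algebraMap _ _
  have hi : Function.Injective i := by
    intro a b hab
    have h2 : ∀ c : EGA4.Cpl R, (Algebra.linearMap R R').lTensor (EGA4.Cpl R) ((TensorProduct.rid R _).symm c) = i c :=
      fun c => by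
      simp [i, Algebra.TensorProduct.algebraMap_apply]
    exact (TensorProduct.rid R _).symm.injective (h1 (by rw [h2, h2, hab]))
  exact hi.isDomain i

theorem isUniversallyCatenary_of_unibranch (A : Type u) [CommRing A] [IsLocalRing A] [IsNoetherianRing A]
    (hA : EGA4.HasGeomNormalFormalFibres A) (hu : CAlg2.IsUnibranch A) : CAlg.IsUniversallyCatenary A := by
  obtain ⟨hdom, hloc⟩ := hu
  haveI := hdom
  haveI : IsLocalRing (CAlg2.red A) := .of_surjective' _ Ideal.Quotient.mk_surjective
  haveI := isDomain_cpl (CAlg2.red A) (S4754.result A hA (nilradical A)) hloc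
  have hR : EGA4.IsFormallyEquidim (CAlg2.red A) := by
    intro p hp
    rw [IsDomain.minimalPrimes_eq_singleton_bot, Set.mem_singleton_iff] at hp
    subst hp
    exact ringKrullDim_eq_of_ringEquiv (RingEquiv.quotientBot _)
  haveI : (nilradical A).IsPrime := (Ideal.Quotient.isDomain_iff_prime _).1 hdom
  have hmin : ∀ p ∈ minimalPrimes A, p = nilradical A := fun p hp => by
    haveI := hp.1.1
    exact le_antisymm (hp.2 ⟨inferInstance, bot_le⟩ (nilradical_le_prime p)) (nilradical_le_prime p)
  have hA' : EGA4.IsFormallyEquidim A := by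
    rw [isFormallyEquidim_iff]
    refine ⟨fun p hp => ?_, fun p _ hp => ?_⟩
    · rw [hmin p hp]
      refine le_antisymm (ringKrullDim_quotient_le _) ?_
      rw [ringKrullDim_quotient]
      exact Order.krullDim_le_of_strictMono
        (fun x : PrimeSpectrum A => (⟨x, fun a ha => nilradical_le_prime x.asIdeal ha⟩ :
          PrimeSpectrum.zeroLocus (nilradical A : Set A))) fun _ _ h => h
    · obtain rfl := hmin p hp
      exact hR
  exact isUniversallyCatenary A (isFormallyCatenary_of_surjective (A := A) (B := A) hA' fun a => ⟨a, rfl⟩)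

end Groth.Agent.FormCat
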