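import Groth.Agent.FormCat.HenselDomain
import Groth.Agent.S12463
import Groth.Agent.CplFib6.GRing

/-!
# Analytic irreducibility and unibranch local rings
-/

set_option linter.style.haveILetI false

namespace Groth.Agent.FormCat

universe u

open IsLocalRing TensorProduct

/-- Every element has a power of the characteristic exponent in the image. -/
def PurInsRange {A F : Type u} [CommRing A] [CommRing F] (f : A →+* F) : Prop :=
  ∀ x : F, ∃ n : ℕ, x ^ (ringExpChar F) ^ n ∈ f.range

theorem purInsRange_congr {A A' F F' : Type u} [CommRing A] [CommRing A'] [Field F] [Field F'] (f : A →+* F)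
    (f' : A' →+* F') (e : F ≃+* F') (h : f.range.map e.toRingHom = f'.range) : PurInsRange f ↔ PurInsRange f' := by
  haveI : ExpChar F' (ringExpChar F) := by
    haveI : ExpChar F (ringExpChar F) := ringExpChar.eq_iff.mp rfl
    exact expChar_of_injective_ringHom (f := e.toRingHom) e.injective _
  have hp : ringExpChar F' = ringExpChar F := ringExpChar.eq F' _
  have key : ∀ (x : F) (n : ℕ), x ^ (ringExpChar F) ^ n ∈ f.range ↔ e x ^ (ringExpChar F) ^ n ∈ f'.range := fun x n => by
    rw [← h, ← map_pow]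
    exact ⟨fun hx => ⟨_, hx, rfl⟩, fun ⟨y, hy, hy'⟩ => e.injective hy' ▸ hy⟩
  refine ⟨fun H y => ?_, fun H x => ?_⟩
  · obtain ⟨x, rfl⟩ := e.surjective y
    obtain ⟨n, hn⟩ := H x
    exact ⟨n, hp ▸ (key x n).mp hn⟩
  · obtain ⟨n, hn⟩ := H (e x)
    exact ⟨n, (key x n).mpr (hp ▸ hn)⟩

/-- Unibranch for a reduced ring. -/
theorem isUnibranch_iff (A : Type u) [CommRing A] [IsLocalRing A] [IsReduced A] :
    CAlg2.IsUnibranch A ↔ IsDomain A ∧ IsLocalRing (integralClosure A (FractionRing A)) := by
  obtain ⟨φ⟩ := S12463.exists_algEquiv_normRed A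
  let E : CAlg2.red A ≃+* A := (Ideal.quotEquivOfEq (nilradical_eq_zero A)).trans (RingEquiv.quotientBot A)
  exact ⟨fun ⟨h1, h2⟩ => ⟨E.symm.toMulEquiv.isDomain, φ.symm.toRingEquiv.isLocalRing⟩,
    fun ⟨h1, h2⟩ => ⟨E.toMulEquiv.isDomain, φ.toRingEquiv.isLocalRing⟩⟩

/-- Geometrically unibranch read on any model of the normalization. -/
theorem isGeomUnibranch_iff (A : Type u) [CommRing A] [IsLocalRing A] [IsDomain A] (S : Type u) [CommRing S]
    [IsLocalRing S] [Algebra A S] (φ : integralClosure A (FractionRing A) ≃ₐ[A] S) :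
    CAlg2.IsGeomUnibranch A ↔ PurInsRange ((residue S).comp (algebraMap A S)) := by
  obtain ⟨χ⟩ := S12463.exists_algEquiv_normRed A
  let ψ : CAlg2.normRed A ≃ₐ[A] S := χ.symm.trans φ
  haveI : IsLocalRing (CAlg2.normRed A) := ψ.symm.toRingEquiv.isLocalRing
  have hU : CAlg2.IsUnibranch A := (isUnibranch_iff A).mpr ⟨inferInstance, φ.symm.toRingEquiv.isLocalRing⟩
  have key : ∀ (m' : Ideal (CAlg2.normRed A)) [m'.IsMaximal],
      PurInsRange ((Ideal.Quotient.mk m').comp ((algebraMap (CAlg2.red A) (CAlg2.normRed A)).comp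
        (Ideal.Quotient.mk (nilradical A)))) ↔ PurInsRange ((residue S).comp (algebraMap A S)) := by
    intro m' hm'
    have hm : maximalIdeal S = m'.map (ψ.toRingEquiv : CAlg2.normRed A →+* S) :=
      (IsLocalRing.eq_maximalIdeal (Ideal.map_isMaximal_of_equiv ψ.toRingEquiv)).symm
    letI : Field (CAlg2.normRed A ⧸ m') := Ideal.Quotient.field m'
    let e : CAlg2.normRed A ⧸ m' ≃+* ResidueField S := Ideal.quotientEquiv m' (maximalIdeal S) ψ.toRingEquiv hm
    refine purInsRange_congr _ _ e ?_
    rw [RingHom.map_range]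
    congr 1
    refine RingHom.ext fun a => ?_
    show residue S (ψ (algebraMap A (CAlg2.normRed A) a)) = residue S (algebraMap A S a)
    rw [ψ.commutes]
  refine ⟨fun h => (key (maximalIdeal _)).mp (h.2 _), fun h => ⟨hU, fun m' hm' => ?_⟩⟩
  exact (key m').mpr h

/-- Primes lift along a faithfully flat base change. -/
theorem exists_prime_over (A C R' : Type u) [CommRing A] [CommRing C] [CommRing R'] [Algebra A C] [Algebra A R']
    [Module.FaithfullyFlat A C] (M : Ideal R') [M.IsPrime] :
    ∃ Q : Ideal (C ⊗[A] R'), Q.IsPrime ∧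
      Q.comap (Algebra.TensorProduct.includeRight (R := A) (A := C) (B := R')).toRingHom = M := by
  obtain ⟨Q, hQ⟩ := PrimeSpectrum.comap_surjective_of_faithfullyFlat (A := R') (B := R' ⊗[A] C) ⟨M, inferInstance⟩
  refine ⟨Q.asIdeal.comap (Algebra.TensorProduct.comm A C R').toRingEquiv.toRingHom, inferInstance, ?_⟩
  rw [Ideal.comap_comap, ← show Q.asIdeal.comap (algebraMap R' (R' ⊗[A] C)) = M from congrArg PrimeSpectrum.asIdeal hQ]
  congr 1

/-- A finite birational integrally closed extension is the normalization. -/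
theorem exists_normalization_equiv (C T : Type u) [CommRing C] [CommRing T] [IsDomain C] [IsDomain T]
    [IsIntegrallyClosed T] [Algebra C T] [Module.Finite C T] (hinj : Function.Injective (algebraMap C T))
    (hbir : ∀ t : T, ∃ d : C, d ≠ 0 ∧ ∃ c : C, algebraMap C T d * t = algebraMap C T c) :
    Nonempty (integralClosure C (FractionRing C) ≃ₐ[C] T) := by
  let L := FractionRing T
  have hTL := IsFractionRing.injective T L
  haveI : FaithfulSMul C L := (faithfulSMul_iff_algebraMap_injective C L).mpr (by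
    rw [IsScalarTower.algebraMap_eq C T L]
    exact hTL.comp hinj)
  haveI : IsFractionRing C L := by
    refine IsFractionRing.of_field C L fun z => ?_
    obtain ⟨t₁, t₂, ht₂, rfl⟩ := IsFractionRing.div_surjective T z
    obtain ⟨d₁, hd₁, c₁, hc₁⟩ := hbir t₁
    obtain ⟨d₂, hd₂, c₂, hc₂⟩ := hbir t₂
    refine ⟨d₂ * c₁, d₁ * c₂, ?_⟩
    have hne : ∀ d : C, d ≠ 0 → algebraMap T L (algebraMap C T d) ≠ 0 := fun d hd => by
      rw [map_ne_zero_iff _ hTL, map_ne_zero_iff _ hinj]
      exact hd
    have h2 : algebraMap T L t₂ ≠ 0 := (map_ne_zero_iff _ hTL).mpr (nonZeroDivisors.ne_zero ht₂)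
    have h3 := hne d₁ hd₁
    have h4 := hne d₂ hd₂
    rw [IsScalarTower.algebraMap_apply C T L, IsScalarTower.algebraMap_apply C T L]
    simp only [map_mul, ← hc₁, ← hc₂]
    rw [mul_left_comm (algebraMap T L (algebraMap C T d₂)), mul_div_mul_left _ _ h3, mul_div_mul_left _ _ h4]
  haveI : Algebra.IsIntegral C T := Algebra.IsIntegral.of_finite _ _
  haveI : IsIntegralClosure T C L := IsIntegralClosure.of_isIntegrallyClosed T C L
  exact ⟨(FractionRing.algEquiv C L).mapIntegralClosure.trans (IsIntegralClosure.equiv C (integralClosure C L) L T)⟩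

/-- The completed normalization is birational over the completion. -/
theorem exists_birational (A C : Type u) [CommRing A] [CommRing C] [IsDomain A] [Algebra A C]
    [Module.FaithfullyFlat A C] (t : C ⊗[A] integralClosure A (FractionRing A)) :
    ∃ d : C, d ≠ 0 ∧ ∃ c : C, algebraMap C (C ⊗[A] integralClosure A (FractionRing A)) d * t = algebraMap C _ c := by
  suffices H : ∃ r : A, r ≠ 0 ∧ ∃ c : C,
      algebraMap C (C ⊗[A] integralClosure A (FractionRing A)) (algebraMap A C r) * t = algebraMap C _ c by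
    obtain ⟨r, hr, c, hc⟩ := H
    exact ⟨_, (map_ne_zero_iff _ (FaithfulSMul.algebraMap_injective A C)).mpr hr, c, hc⟩
  induction t using TensorProduct.induction_on with
  | zero => exact ⟨1, one_ne_zero, 0, by simp⟩
  | tmul c s =>
    obtain ⟨a, b, hb, hab⟩ := IsFractionRing.div_surjective A (s : FractionRing A)
    refine ⟨b, nonZeroDivisors.ne_zero hb, algebraMap A C a * c, ?_⟩
    have hs : algebraMap A (integralClosure A (FractionRing A)) b * s = algebraMap A _ a := Subtype.ext (by
      show algebraMap A (FractionRing A) b * (s : FractionRing A) = algebraMap A (FractionRing A) a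
      rw [← hab, mul_div_cancel₀ _ ((map_ne_zero_iff _ (IsFractionRing.injective A (FractionRing A))).mpr (nonZeroDivisors.ne_zero hb))])
    rw [Algebra.TensorProduct.algebraMap_apply, Algebra.TensorProduct.tmul_mul_tmul, one_mul,
      Algebra.TensorProduct.algebraMap_apply, Algebra.algebraMap_self, RingHom.id_apply, RingHom.id_apply,
      ← Algebra.smul_def, ← Algebra.smul_def, TensorProduct.smul_tmul, Algebra.smul_def b s, hs,
      Algebra.algebraMap_eq_smul_one, TensorProduct.smul_tmul]
  | add x y hx hy =>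
    obtain ⟨r, hr, c, hc⟩ := hx
    obtain ⟨r', hr', c', hc'⟩ := hy
    refine ⟨r * r', mul_ne_zero hr hr', algebraMap A C r' * c + algebraMap A C r * c', ?_⟩
    rw [map_mul, map_mul, map_add, map_mul, map_mul, ← hc, ← hc']
    ring

/-- The residue fields of a dense base change agree. -/
theorem purInsRange_residue_tensor (A C R' : Type u) [CommRing A] [CommRing C] [CommRing R'] [Algebra A C] [Algebra A R']
    [IsLocalRing C] [IsLocalRing R'] [IsLocalRing (C ⊗[A] R')] [Module.Finite A R']
    [IsLocalHom (Algebra.TensorProduct.includeRight (R := A) (A := C) (B := R')).toRingHom]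
    (hdense : ∀ c : C, ∃ r : A, c - algebraMap A C r ∈ maximalIdeal C) :
    PurInsRange ((residue (C ⊗[A] R')).comp (algebraMap C (C ⊗[A] R'))) ↔
      PurInsRange ((residue R').comp (algebraMap A R')) := by
  haveI : IsLocalHom (algebraMap C (C ⊗[A] R')) := ⟨fun c hc => by
    by_contra hc'
    haveI : Algebra.IsIntegral C (C ⊗[A] R') := Algebra.IsIntegral.of_finite _ _
    have h1 := IsLocalRing.eq_maximalIdeal (Ideal.isMaximal_comap_of_isIntegral_of_isMaximal (R := C) (maximalIdeal (C ⊗[A] R')))
    exact (mem_maximalIdeal _).mp (show c ∈ (maximalIdeal (C ⊗[A] R')).comap (algebraMap C _) from h1.ge hc') hc⟩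
  let ι : R' →ₐ[A] C ⊗[A] R' := Algebra.TensorProduct.includeRight
  let g : ResidueField R' →+* ResidueField (C ⊗[A] R') := ResidueField.map ι.toRingHom
  have hres : ∀ c : C, ∃ r : A, residue (C ⊗[A] R') (algebraMap C _ c) = residue (C ⊗[A] R') (algebraMap A _ r) := fun c => by
    obtain ⟨r, hr⟩ := hdense c
    refine ⟨r, sub_eq_zero.mp ?_⟩
    rw [IsScalarTower.algebraMap_apply A C (C ⊗[A] R'), ← map_sub, ← map_sub, residue_eq_zero_iff]
    exact map_nonunit _ _ hr
  have hsurj : Function.Surjective g := fun z => by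
    obtain ⟨t, rfl⟩ := residue_surjective z
    induction t using TensorProduct.induction_on with
    | zero => exact ⟨0, by simp⟩
    | tmul c s =>
      obtain ⟨r, hr⟩ := hres c
      refine ⟨residue R' (algebraMap A R' r * s), ?_⟩
      rw [show c ⊗ₜ[A] s = algebraMap C (C ⊗[A] R') c * ι s by
        simp [ι, Algebra.TensorProduct.algebraMap_apply], map_mul, map_mul, map_mul, hr]
      rw [ResidueField.map_residue, ResidueField.map_residue]
      congr 2
      exact ι.commutes r
    | add x y hx hy =>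
      obtain ⟨a, ha⟩ := hx
      obtain ⟨b, hb⟩ := hy
      exact ⟨a + b, by rw [map_add, map_add, ha, hb]⟩
  refine (purInsRange_congr _ _ (RingEquiv.ofBijective g ⟨g.injective, hsurj⟩) ?_).symm
  rw [RingHom.map_range]
  refine le_antisymm ?_ ?_
  · rintro _ ⟨a, rfl⟩
    refine ⟨algebraMap A C a, ?_⟩
    show residue (C ⊗[A] R') (algebraMap C _ (algebraMap A C a)) = residue (C ⊗[A] R') (ι (algebraMap A R' a))
    rw [ι.commutes, ← IsScalarTower.algebraMap_apply]
  · rintro _ ⟨c, rfl⟩
    obtain ⟨r, hr⟩ := hres c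
    refine ⟨r, ?_⟩
    show residue (C ⊗[A] R') (ι (algebraMap A R' r)) = residue (C ⊗[A] R') (algebraMap C _ c)
    rw [ι.commutes, hr]

variable (A : Type u) [CommRing A] [IsNoetherianRing A] [IsLocalRing A]

/-- The completed normalization of a domain is a domain when it is local. -/
theorem isDomain_completed_normalization [IsDomain A] (hA : EGA4.HasGeomNormalFormalFibres A)
    [IsLocalRing (integralClosure A (FractionRing A))] :
    Module.Finite A (integralClosure A (FractionRing A)) ∧
      IsLocalRing (EGA4.Cpl A ⊗[A] integralClosure A (FractionRing A)) ∧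
      IsDomain (EGA4.Cpl A ⊗[A] integralClosure A (FractionRing A)) ∧
      IsIntegrallyClosed (EGA4.Cpl A ⊗[A] integralClosure A (FractionRing A)) := by
  haveI := FlatLoc6.isLocalRing_cpl A
  haveI := FlatLoc6.isNoetherianRing_cpl A
  haveI := FlatLoc6.faithfullyFlat_cpl A
  let K := FractionRing A
  let R' := integralClosure A K
  have hred : EGA4.HasGeomReducedFormalFibres A := fun p _ => FlatLoc6.geomReduced_of_isGeomNormal (hA p)
  haveI hfin : Module.Finite A R' := CompleteNagata.isN2_of_geomReduced A hred K inferInstance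
  haveI : IsFractionRing R' K := integralClosure.isFractionRing_of_finite_extension K K
  haveI : IsIntegrallyClosed R' := integralClosure.isIntegrallyClosedOfFiniteExtension K
  have hnorm : EGA4.IsNormalRing R' := fun p _ =>
    ⟨IsLocalization.isDomain_localization p.primeCompl_le_nonZeroDivisors,
      isIntegrallyClosed_of_isLocalization _ p.primeCompl p.primeCompl_le_nonZeroDivisors⟩
  haveI hl := isLocalRing_cpl_tensor A R'
  have hT := S2670.result A (EGA4.Cpl A) ⟨inferInstance, hA⟩ R' hnorm
  haveI hd := isDomain_of_isNormalRing_local _ hT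
  refine ⟨hfin, hl, hd, ?_⟩
  obtain ⟨_, hic⟩ := hT (maximalIdeal (EGA4.Cpl A ⊗[A] R'))
  haveI := hic
  exact IsIntegrallyClosed.of_equiv (R := Localization.AtPrime (maximalIdeal (EGA4.Cpl A ⊗[A] R')))
    (IsLocalization.atUnits (EGA4.Cpl A ⊗[A] R') (maximalIdeal (EGA4.Cpl A ⊗[A] R')).primeCompl
      (S := Localization.AtPrime (maximalIdeal (EGA4.Cpl A ⊗[A] R'))) fun s hs => notMem_maximalIdeal.1 hs).symm.toRingEquiv

/-- Analytic irreducibility of a reduced ring is being unibranch. -/
theorem isDomain_cpl_iff [IsReduced A] (hA : EGA4.HasGeomNormalFormalFibres A) :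
    IsDomain (EGA4.Cpl A) ↔ CAlg2.IsUnibranch A := by
  haveI := FlatLoc6.isLocalRing_cpl A
  haveI := FlatLoc6.isNoetherianRing_cpl A
  haveI := FlatLoc6.faithfullyFlat_cpl A
  rw [isUnibranch_iff]
  refine ⟨fun hd => ?_, fun ⟨h1, h2⟩ => isDomain_cpl A hA h2⟩
  haveI := hd
  haveI : IsDomain A := Function.Injective.isDomain (f := algebraMap A (EGA4.Cpl A)) (FaithfulSMul.algebraMap_injective _ _)
  refine ⟨inferInstance, ?_⟩
  let K := FractionRing A
  let R' := integralClosure A K
  have hred : EGA4.HasGeomReducedFormalFibres A := fun p _ => FlatLoc6.geomReduced_of_isGeomNormal (hA p)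
  haveI : Module.Finite A R' := CompleteNagata.isN2_of_geomReduced A hred K inferInstance
  haveI : IsDomain (EGA4.Cpl A ⊗[A] K) := by
    letI : Algebra (EGA4.Cpl A ⊗[A] A) (EGA4.Cpl A ⊗[A] K) :=
      (Algebra.TensorProduct.map (AlgHom.id (EGA4.Cpl A) (EGA4.Cpl A)) (IsScalarTower.toAlgHom A A K)).toRingHom.toAlgebra
    haveI : IsScalarTower (EGA4.Cpl A) (EGA4.Cpl A ⊗[A] A) (EGA4.Cpl A ⊗[A] K) := IsScalarTower.of_algebraMap_eq fun c => by
      show _ = Algebra.TensorProduct.map (AlgHom.id (EGA4.Cpl A) (EGA4.Cpl A)) (IsScalarTower.toAlgHom A A K) (c ⊗ₜ 1)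
      simp
    haveI := IsLocalization.tensorProduct_tensorProduct_right (A := A) A (EGA4.Cpl A) (nonZeroDivisors A) K
      (RingHom.ext fun x => by
        show Algebra.TensorProduct.map (AlgHom.id (EGA4.Cpl A) (EGA4.Cpl A)) (IsScalarTower.toAlgHom A A K) (1 ⊗ₜ x) = _
        simp [Algebra.algebraMap_eq_smul_one, TensorProduct.smul_tmul, ← Algebra.TensorProduct.one_def])
    haveI : IsDomain (EGA4.Cpl A ⊗[A] A) := (Algebra.TensorProduct.rid A A (EGA4.Cpl A)).toRingEquiv.toMulEquiv.isDomain
    refine IsLocalization.isDomain_of_le_nonZeroDivisors (S := EGA4.Cpl A ⊗[A] K)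
      (M := (nonZeroDivisors A).map (Algebra.TensorProduct.includeRight (R := A) (A := EGA4.Cpl A))) ?_
    rintro _ ⟨r, hr, rfl⟩
    refine mem_nonZeroDivisors_of_ne_zero ((map_ne_zero_iff _ ?_).mpr (nonZeroDivisors.ne_zero hr))
    exact Module.FaithfullyFlat.tensorProduct_mk_injective (A := A) (B := EGA4.Cpl A) A
  haveI : IsDomain (EGA4.Cpl A ⊗[A] R') := Function.Injective.isDomain
    (f := Algebra.TensorProduct.map (AlgHom.id A (EGA4.Cpl A)) R'.val)
    (Module.Flat.lTensor_preserves_injective_linearMap (M := EGA4.Cpl A) R'.val.toLinearMap Subtype.val_injective)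
  haveI := CplFib6.isAdicComplete_cpl A
  haveI : HenselianRing (EGA4.Cpl A) (maximalIdeal (EGA4.Cpl A)) := inferInstance
  haveI : HenselianLocalRing (EGA4.Cpl A) := Hensel.henselianLocalRing_of_henselianRing _
  haveI := isLocalRing_of_finite_domain (EGA4.Cpl A) (EGA4.Cpl A ⊗[A] R')
  haveI : Nontrivial R' := inferInstance
  have key : ∀ M : Ideal R', M.IsMaximal → M = (maximalIdeal (EGA4.Cpl A ⊗[A] R')).comap
      (Algebra.TensorProduct.includeRight (R := A) (A := EGA4.Cpl A) (B := R')).toRingHom := by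
    intro M hM
    haveI := hM.isPrime
    obtain ⟨Q, hQp, hQ⟩ := exists_prime_over A (EGA4.Cpl A) R' M
    exact hM.eq_of_le (Ideal.IsPrime.ne_top (Ideal.comap_isPrime _ _))
      (hQ ▸ Ideal.comap_mono (le_maximalIdeal hQp.ne_top))
  obtain ⟨M, hM⟩ := Ideal.exists_maximal R'
  exact IsLocalRing.of_unique_max_ideal ⟨M, hM, fun M' hM' => (key M' hM').trans (key M hM).symm⟩

/-- Geometric irreducibility of the completion. -/
theorem isGeomUnibranch_cpl_iff [IsReduced A] [IsLocalRing (EGA4.Cpl A)] (hA : EGA4.HasGeomNormalFormalFibres A) :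
    CAlg2.IsGeomUnibranch (EGA4.Cpl A) ↔ CAlg2.IsGeomUnibranch A := by
  haveI := FlatLoc6.isNoetherianRing_cpl A
  haveI := FlatLoc6.faithfullyFlat_cpl A
  haveI : IsReduced (EGA4.Cpl A) := by
    haveI := FlatLoc6.isReduced_baseChange (A := A) (C := EGA4.Cpl A) (fun p _ => FlatLoc6.geomReduced_of_isGeomNormal (hA p)) A
    exact isReduced_of_injective (Algebra.TensorProduct.rid A A (EGA4.Cpl A)).symm
      (Algebra.TensorProduct.rid A A (EGA4.Cpl A)).symm.injective
  suffices H : CAlg2.IsUnibranch A → (CAlg2.IsGeomUnibranch (EGA4.Cpl A) ↔ CAlg2.IsGeomUnibranch A) from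
    ⟨fun h => (H ((isDomain_cpl_iff A hA).mp ((isUnibranch_iff _).mp h.1).1)).mp h, fun h => (H h.1).mpr h⟩
  intro hu
  obtain ⟨_, _⟩ := (isUnibranch_iff A).mp hu
  haveI := (isDomain_cpl_iff A hA).mpr hu
  obtain ⟨hfin, hl, hd, hic⟩ := isDomain_completed_normalization A hA
  let C := EGA4.Cpl A
  let K := FractionRing A
  let R' := integralClosure A K
  haveI := hfin
  haveI := hl
  haveI := hd
  haveI := hic
  haveI : IsFractionRing R' K := integralClosure.isFractionRing_of_finite_extension K K
  have hinjC : Function.Injective (algebraMap C (C ⊗[A] R')) := fun a b h => by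
    have h1 := Module.Flat.lTensor_preserves_injective_linearMap (M := C) (Algebra.linearMap A R')
      (fun a b h => IsFractionRing.injective A K (congrArg (fun z : R' => (z : K)) h))
    refine (TensorProduct.rid A C).symm.injective (h1 ?_)
    simpa [Algebra.TensorProduct.algebraMap_apply] using h
  obtain ⟨φ⟩ := exists_normalization_equiv C (C ⊗[A] R') hinjC (exists_birational A C)
  rw [isGeomUnibranch_iff C (C ⊗[A] R') φ, isGeomUnibranch_iff A R' AlgEquiv.refl]
  haveI : IsLocalHom (Algebra.TensorProduct.includeRight (R := A) (A := C) (B := R')).toRingHom := ⟨fun x hx => by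
    by_contra hx'
    obtain ⟨Q, hQp, hQ⟩ := exists_prime_over A C R' (maximalIdeal R')
    exact hQp.ne_top (Ideal.eq_top_of_isUnit_mem _ (show _ ∈ Q from hQ.ge ((mem_maximalIdeal x).mpr hx')) hx)⟩
  have hdense : ∀ c : C, ∃ r : A, c - algebraMap A C r ∈ maximalIdeal C := fun c => by
    obtain ⟨a, ha⟩ := CplFib6.exists_sub_mem_pow A 1 c
    exact ⟨a, by rwa [pow_one, ← AdicCompletion.maximalIdeal_eq_map_of_fg (IsNoetherian.noetherian _)] at ha⟩
  exact purInsRange_residue_tensor A C R' hdense

end Groth.Agent.FormCat
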