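import Groth.Agent.FormCat.Descent
import Groth.Agent.FlatLoc6.Loc
import Groth.Agent.LC.DepthLoc
import Groth.Agent.LC.GorLoc
import Groth.Agent.S2604
import Groth.Agent.S2089
import Mathlib.RingTheory.Ideal.AssociatedPrime.Localization

/-!
# Cohen–Macaulay modules with full support and formal equidimensionality
-/

set_option autoImplicit false
set_option linter.style.haveILetI false

open IsLocalRing TensorProduct

namespace Groth.Agent.FormCat

universe u

/-- A local ring with a Cohen–Macaulay module of full support is equidimensional. -/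
theorem isEquidim_of_CM (R : Type u) [CommRing R] [IsNoetherianRing R] [IsLocalRing R] (M : Type u)
    [AddCommGroup M] [Module R M] [Module.Finite R M] (hCM : LocCoh.IsCohenMacaulayModule R M)
    (hsupp : Module.support R M = Set.univ) : EGA4.IsEquidim R := by
  have hdim : Module.supportDim R M = ringKrullDim R := by
    rw [Module.supportDim, hsupp]
    exact Order.krullDim_eq_of_orderIso OrderIso.Set.univ
  refine (isEquidim_of_forall R (ringKrullDim R) fun x hx => le_antisymm (ringKrullDim_quotient_le _) ?_).1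
  have hann : x.asIdeal ∈ (Module.annihilator R M).minimalPrimes := by
    have hx' : x ∈ Module.support R M := hsupp ▸ Set.mem_univ x
    exact ⟨⟨x.2, Module.mem_support_iff_of_finite.1 hx'⟩, fun q hq hle => hx.2 ⟨hq.1, bot_le⟩ hle⟩
  have h := S2089.result x.asIdeal
    (Module.associatedPrimes.minimalPrimes_annihilator_subset_associatedPrimes (R := R) (M := M) hann)
  rwa [← hCM, hdim] at h

/-- All associated primes of a Cohen–Macaulay local ring have maximal dimension. -/
theorem isStrictlyEquidim_of_CM (R : Type u) [CommRing R] [IsNoetherianRing R] [IsLocalRing R]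
    (hCM : LocCoh.IsCohenMacaulayModule R R) : EGA4.IsStrictlyEquidim R := by
  intro p hp
  refine le_antisymm (ringKrullDim_quotient_le _) ?_
  have h := S2089.result p hp
  rwa [← hCM, Module.supportDim_self_eq_ringKrullDim] at h

theorem isStrictlyEquidim_of_ringEquiv {R R' : Type u} [CommRing R] [CommRing R'] [IsNoetherianRing R]
    [IsNoetherianRing R'] (e : R ≃+* R') (h : EGA4.IsStrictlyEquidim R) : EGA4.IsStrictlyEquidim R' := by
  intro p hp
  obtain ⟨hpp, z, hz⟩ := Alg6.mem_ass_iff.1 hp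
  haveI := hpp
  have hk : RingHom.ker ((Ideal.Quotient.mk p).comp e.toRingHom) = p.comap e.toRingHom := by
    rw [← RingHom.comap_ker, Ideal.mk_ker]
  have h1 : p.comap e.toRingHom ∈ associatedPrimes R R := Alg6.mem_ass_iff.2
    ⟨inferInstance, e.symm z, fun a => by
      show e a ∈ p ↔ _
      rw [hz, smul_eq_mul, smul_eq_mul, ← e.map_eq_zero_iff (x := a * e.symm z), map_mul, e.apply_symm_apply]⟩
  rw [← ringKrullDim_eq_of_ringEquiv e, ← h _ h1]
  exact (ringKrullDim_eq_of_ringEquiv ((Ideal.quotEquivOfEq hk.symm).trans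
    (RingHom.quotientKerEquivOfSurjective (Ideal.Quotient.mk_surjective.comp e.surjective)))).symm

section Completion

variable (A : Type u) [CommRing A] [IsNoetherianRing A] [IsLocalRing A]

theorem isCM_completion (M : Type u) [AddCommGroup M] [Module A M] [Module.Finite A M] [Nontrivial M]
    (hCM : LocCoh.IsCohenMacaulayModule A M) :
    haveI := FlatLoc6.isLocalRing_cpl A
    LocCoh.IsCohenMacaulayModule (EGA4.Cpl A) (EGA4.Cpl A ⊗[A] M) := by
  haveI := FlatLoc6.isLocalRing_cpl A
  haveI := FlatLoc6.isNoetherianRing_cpl A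
  haveI := FlatLoc6.faithfullyFlat_cpl A
  refine (S2604.result A (EGA4.Cpl A) M (EGA4.Cpl A)).2 ⟨hCM, ?_⟩
  have hm : EGA4.mB A (EGA4.Cpl A) = maximalIdeal (EGA4.Cpl A) :=
    (AdicCompletion.maximalIdeal_eq_map_of_fg (IsNoetherian.noetherian (maximalIdeal A))).symm
  haveI : (EGA4.mB A (EGA4.Cpl A)).IsMaximal := hm ▸ maximalIdeal.isMaximal _
  haveI : Nontrivial (EGA4.FibMod A (EGA4.Cpl A) (EGA4.Cpl A)) := Submodule.Quotient.nontrivial_iff.mpr fun h =>
    (Ideal.IsMaximal.ne_top ‹_› : EGA4.mB A (EGA4.Cpl A) ≠ ⊤) (by simpa [smul_eq_mul, Ideal.mul_top] using h)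
  have h1 := LC.depth_le_supportDim (R := EGA4.FibRing A (EGA4.Cpl A)) (EGA4.FibMod A (EGA4.Cpl A) (EGA4.Cpl A))
  have h2 := Module.supportDim_le_ringKrullDim (EGA4.FibRing A (EGA4.Cpl A)) (EGA4.FibMod A (EGA4.Cpl A) (EGA4.Cpl A))
  have hf : IsField (EGA4.FibRing A (EGA4.Cpl A)) := (Ideal.Quotient.maximal_ideal_iff_isField_quotient _).1 ‹_›
  rw [ringKrullDim_eq_zero_of_isField hf] at h2
  obtain ⟨d, hd⟩ := LC.exists_supportDim_eq_nat (R := EGA4.FibRing A (EGA4.Cpl A))
    (EGA4.FibMod A (EGA4.Cpl A) (EGA4.Cpl A))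
  obtain ⟨e, he⟩ := LC.exists_depth_eq_nat (R := EGA4.FibRing A (EGA4.Cpl A))
    (EGA4.FibMod A (EGA4.Cpl A) (EGA4.Cpl A))
  unfold LocCoh.IsCohenMacaulayModule
  rw [hd, he] at h1 ⊢
  rw [hd] at h2
  norm_cast at h1 h2 ⊢
  omega

theorem isFormallyEquidim_of_CM (M : Type u) [AddCommGroup M] [Module A M] [Module.Finite A M]
    (hCM : LocCoh.IsCohenMacaulayModule A M) (hsupp : Module.support A M = Set.univ) :
    EGA4.IsFormallyEquidim A := by
  haveI := FlatLoc6.isLocalRing_cpl A
  haveI := FlatLoc6.isNoetherianRing_cpl A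
  haveI : Nontrivial M := by
    rw [← Module.nonempty_support_iff (R := A), hsupp]
    exact Set.univ_nonempty
  refine isEquidim_of_CM (EGA4.Cpl A) (EGA4.Cpl A ⊗[A] M) (isCM_completion A M hCM) (Set.eq_univ_of_forall fun q => ?_)
  rw [FlatLoc6.mem_support_tensor_iff (A := A) (B := EGA4.Cpl A)]
  exact ⟨by rw [Module.mem_support_iff_of_finite, Module.annihilator_eq_bot.2 inferInstance]; exact bot_le,
    hsupp ▸ Set.mem_univ _⟩

variable {A}

theorem isFormallyEquidim_of_surjective {B : Type u} [CommRing B] [IsNoetherianRing B] [IsLocalRing B] [Algebra A B]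
    (hs : Function.Surjective (algebraMap A B))
    (h : EGA4.IsEquidim (EGA4.Cpl A ⧸ (RingHom.ker (Algebra.ofId A B)).map (algebraMap A (EGA4.Cpl A)))) :
    EGA4.IsFormallyEquidim B := by
  obtain ⟨e⟩ := FormalFib6.exists_cplQuotEquiv A B hs
  let J := RingHom.ker (Algebra.ofId A B)
  let eJ : (A ⧸ J) ≃ₐ[A] B := Ideal.quotientKerAlgEquivOfSurjective hs
  exact isEquidim_of_ringEquiv
    ((((Algebra.TensorProduct.quotIdealMapEquivTensorQuot (EGA4.Cpl A) J).toRingEquiv.trans
      ((Algebra.TensorProduct.congr (AlgEquiv.refl (R := A) (A₁ := EGA4.Cpl A)) eJ).trans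
        (Algebra.TensorProduct.comm A (EGA4.Cpl A) B)).toRingEquiv).trans e.toRingEquiv)) h

theorem isEquidim_cpl_quotient (h : EGA4.IsFormallyEquidim A) (p : Ideal A) [p.IsPrime] :
    EGA4.IsEquidim (EGA4.Cpl A ⧸ p.map (algebraMap A (EGA4.Cpl A))) := by
  haveI : IsLocalRing (A ⧸ p) := .of_surjective' _ Ideal.Quotient.mk_surjective
  exact (isFormallyEquidim_quotient_iff A p).1
    ((isEquidim_quotient_iff_formallyEquidim A h p).1 (isEquidim_quotient_prime A p))

theorem isFormallyCatenary_of_surjective (h : EGA4.IsFormallyEquidim A) {B : Type u} [CommRing B]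
    [IsNoetherianRing B] [IsLocalRing B] [Algebra A B] (hs : Function.Surjective (algebraMap A B)) :
    EGA4.IsFormallyCatenary B := by
  intro p hp
  refine isFormallyEquidim_of_surjective (A := A) (B := B ⧸ p) (Ideal.Quotient.mk_surjective.comp hs) ?_
  have e : RingHom.ker (Algebra.ofId A (B ⧸ p)) = p.comap (algebraMap A B) := by
    ext a
    exact Ideal.Quotient.eq_zero_iff_mem
  rw [e]
  exact isEquidim_cpl_quotient h _

section FibreLemmas

variable {B : Type u} [CommRing B] [IsNoetherianRing B] [Algebra A B]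

omit [IsNoetherianRing A] [IsLocalRing A] [IsNoetherianRing B] in
theorem under_eq_of_associated [Module.Flat A B] (p : Ideal A) [p.IsPrime] (Q : Ideal B) [Q.IsPrime] (z : B)
    (hz : ∀ a, a ∈ Q ↔ a * z ∈ p.map (algebraMap A B)) : Q.comap (algebraMap A B) = p := by
  let J : Ideal B := p.map (algebraMap A B)
  have hJQ : J ≤ Q := fun a ha => (hz a).2 (Ideal.mul_mem_right _ _ ha)
  have hz0 : z ∉ J := fun h => (Ideal.IsPrime.ne_top ‹Q.IsPrime›) ((Ideal.eq_top_iff_one _).2
    ((hz 1).2 (by rwa [one_mul])))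
  have hover : Q.comap (algebraMap A B) = p := by
    refine le_antisymm (fun a ha => ?_) (Ideal.map_le_iff_le_comap.1 hJQ)
    by_contra hap
    let f : (A ⧸ p) →ₗ[A] A ⧸ p := LinearMap.lsmul A (A ⧸ p) a
    have hf : Function.Injective f := by
      rw [injective_iff_map_eq_zero]
      intro y hy
      obtain ⟨y, rfl⟩ := Ideal.Quotient.mk_surjective y
      change Ideal.Quotient.mk p (a * y) = 0 at hy
      rw [Ideal.Quotient.eq_zero_iff_mem] at hy ⊢
      exact ((‹p.IsPrime›).mem_or_mem hy).resolve_left hap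
    have hinj := Module.Flat.lTensor_preserves_injective_linearMap (M := B) f hf
    let e := Algebra.TensorProduct.quotIdealMapEquivTensorQuot B p
    refine hz0 (Ideal.Quotient.eq_zero_iff_mem.1 (e.injective ?_))
    rw [map_zero]
    refine hinj ?_
    rw [map_zero]
    have h1 : e (Ideal.Quotient.mk J (algebraMap A B a * z)) = 0 := by
      rw [Ideal.Quotient.eq_zero_iff_mem.2 ((hz _).1 ha), map_zero]
    rw [← h1, Algebra.TensorProduct.quotIdealMapEquivTensorQuot_mk,
      Algebra.TensorProduct.quotIdealMapEquivTensorQuot_mk, LinearMap.lTensor_tmul]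
    show z ⊗ₜ[A] (a • (1 : A ⧸ p)) = _
    rw [← TensorProduct.smul_tmul, Algebra.smul_def]
  exact hover

omit [IsLocalRing A] in
theorem fibDepth_eq_zero_of_associated (p : Ideal A) [p.IsPrime] (Q : Ideal B) [Q.IsPrime] (z : B)
    (hz : ∀ a, a ∈ Q ↔ a * z ∈ p.map (algebraMap A B)) (hover : Q.comap (algebraMap A B) = p) :
    FlatLoc6.fibDepth A Q B = 0 := by
  let J : Ideal B := p.map (algebraMap A B)
  let BQ := Localization.AtPrime Q
  let J' : Ideal BQ := (Q.comap (algebraMap A B)).map (algebraMap A BQ)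
  have hJ' : J' = J.map (algebraMap B BQ) := by
    simp only [J', J]
    rw [hover, Ideal.map_map, ← IsScalarTower.algebraMap_eq]
  let σ : EGA4.FibLocMod A B Q B ≃ₗ[BQ] BQ ⧸ J' :=
    Submodule.Quotient.equiv _ _ (LC.selfLoc Q.primeCompl) (by
      rw [Submodule.map_smul'', Submodule.map_top, LinearMap.range_eq_top.mpr (LC.selfLoc Q.primeCompl).surjective,
        smul_eq_mul, Ideal.mul_top])
  haveI : IsNoetherianRing BQ := IsLocalization.isNoetherianRing Q.primeCompl _ inferInstance
  rw [FlatLoc6.fibDepth, Hensel.depth_congr σ]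
  refine Order.lt_one_iff.1 (not_le.1 fun h1 => Alg6.one_le_depth_iff.1 h1 ?_)
  refine Alg6.mem_ass_iff.2 ⟨inferInstance, Ideal.Quotient.mk J' (algebraMap B BQ z), fun b => ?_⟩
  obtain ⟨c, s, rfl⟩ := IsLocalization.exists_mk'_eq Q.primeCompl b
  rw [IsLocalization.AtPrime.mk'_mem_maximal_iff BQ Q c s, hz c, ← Ideal.Quotient.mk_eq_mk,
    ← Submodule.Quotient.mk_smul, Submodule.Quotient.mk_eq_zero, hJ', smul_eq_mul]
  constructor
  · intro hc
    rw [show IsLocalization.mk' BQ c s * algebraMap B BQ z = IsLocalization.mk' BQ (c * z) s by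
      rw [mul_comm, IsLocalization.mul_mk'_eq_mk'_of_mul, mul_comm z c] ]
    rw [IsLocalization.mk'_mem_map_algebraMap_iff Q.primeCompl]
    exact ⟨1, one_mem _, by simpa using hc⟩
  · intro hc
    rw [show IsLocalization.mk' BQ c s * algebraMap B BQ z = IsLocalization.mk' BQ (c * z) s by
      rw [mul_comm, IsLocalization.mul_mk'_eq_mk'_of_mul, mul_comm z c] ] at hc
    obtain ⟨t, ht, hc⟩ := (IsLocalization.mk'_mem_map_algebraMap_iff Q.primeCompl _ _ _ _).1 hc
    rw [← mul_assoc, ← hz] at hc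
    exact (hz c).1 (((‹Q.IsPrime›).mem_or_mem hc).resolve_left ht)


omit [IsLocalRing A] [IsNoetherianRing A] [IsNoetherianRing B] in
theorem supportDim_fib (p : Ideal A) (Q : Ideal B) [Q.IsPrime] (hover : Q.comap (algebraMap A B) = p) :
    FlatLoc6.fibDim A Q B = ringKrullDim (Localization.AtPrime Q ⧸
      (p.map (algebraMap A B)).map (algebraMap B (Localization.AtPrime Q))) := by
  let J : Ideal B := p.map (algebraMap A B)
  let BQ := Localization.AtPrime Q
  let J' : Ideal BQ := (Q.comap (algebraMap A B)).map (algebraMap A BQ)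
  have hJ' : J' = J.map (algebraMap B BQ) := by
    simp only [J', J]
    rw [hover, Ideal.map_map, ← IsScalarTower.algebraMap_eq]
  let σ : EGA4.FibLocMod A B Q B ≃ₗ[BQ] BQ ⧸ J' :=
    Submodule.Quotient.equiv _ _ (LC.selfLoc Q.primeCompl) (by
      rw [Submodule.map_smul'', Submodule.map_top, LinearMap.range_eq_top.mpr (LC.selfLoc Q.primeCompl).surjective,
        smul_eq_mul, Ideal.mul_top])
  rw [show FlatLoc6.fibDim A Q B = Module.supportDim BQ (BQ ⧸ J') from Module.supportDim_eq_of_equiv σ,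
    Module.supportDim_quotient_eq_ringKrullDim]
  exact ringKrullDim_eq_of_ringEquiv (Ideal.quotEquivOfEq hJ')

omit [IsLocalRing A] [IsNoetherianRing A] [IsNoetherianRing B] in
theorem minimal_of_dim_le_zero (J : Ideal B) (Q : Ideal B) [Q.IsPrime] (hJQ : J ≤ Q)
    (hf0 : ringKrullDim (Localization.AtPrime Q ⧸ J.map (algebraMap B (Localization.AtPrime Q))) ≤ 0) :
    Q ∈ J.minimalPrimes := by
  let BQ := Localization.AtPrime Q
  let J' : Ideal BQ := J.map (algebraMap B BQ)
  refine ⟨⟨inferInstance, hJQ⟩, fun K hK hKQ => ?_⟩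
  haveI := hK.1
  have hdisj : Disjoint (Q.primeCompl : Set B) (K : Set B) := Set.disjoint_left.2 fun a ha hK' => ha (hKQ hK')
  have hKp : (K.map (algebraMap B BQ)).IsPrime := IsLocalization.isPrime_of_isPrime_disjoint _ _ K inferInstance hdisj
  have hJK : RingHom.ker (Ideal.Quotient.mk J') ≤ K.map (algebraMap B BQ) := by
    rw [Ideal.mk_ker]
    exact Ideal.map_mono hK.2
  have hJm : RingHom.ker (Ideal.Quotient.mk J') ≤ maximalIdeal BQ :=
    hJK.trans (le_maximalIdeal hKp.ne_top)
  have hmax := Order.krullDim_nonpos_iff_forall_isMax.1 hf0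
    (⟨(K.map (algebraMap B BQ)).map (Ideal.Quotient.mk J'),
      haveI := hKp; Ideal.map_isPrime_of_surjective Ideal.Quotient.mk_surjective hJK⟩ : PrimeSpectrum (BQ ⧸ J'))
  have h1 := hmax (b := ⟨(maximalIdeal BQ).map (Ideal.Quotient.mk J'),
      Ideal.map_isPrime_of_surjective Ideal.Quotient.mk_surjective hJm⟩)
    (Ideal.map_mono (le_maximalIdeal hKp.ne_top))
  have h2 := Ideal.comap_mono (f := Ideal.Quotient.mk J') h1
  rw [Ideal.comap_map_of_surjective _ Ideal.Quotient.mk_surjective, Ideal.comap_map_of_surjective _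
    Ideal.Quotient.mk_surjective, ← RingHom.ker_eq_comap_bot, sup_eq_left.2 hJm, sup_eq_left.2 hJK] at h2
  intro a ha
  have h3 := h2 ((IsLocalization.AtPrime.to_map_mem_maximal_iff BQ Q a).2 ha)
  rwa [← Ideal.mem_comap, show (K.map (algebraMap B BQ)).comap (algebraMap B BQ) = K from
    IsLocalization.under_map_of_isPrime_disjoint Q.primeCompl BQ inferInstance hdisj] at h3

set_option maxHeartbeats 1000000 in
/-- Associated primes of the fibres are minimal when there is a Cohen–Macaulay module of full support. -/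
theorem minimal_of_associated [IsLocalRing B] [IsLocalHom (algebraMap A B)] [Module.Flat A B] (M : Type u)
    [AddCommGroup M] [Module A M] [Module.Finite A M] (hCMB : LocCoh.IsCohenMacaulayModule B (B ⊗[A] M))
    (hsupp : Module.support A M = Set.univ) (p : Ideal A) [p.IsPrime] (Q : Ideal B) [Q.IsPrime] (z : B)
    (hz : ∀ a, a ∈ Q ↔ a * z ∈ p.map (algebraMap A B)) :
    Q ∈ (p.map (algebraMap A B)).minimalPrimes := by
  have hover := under_eq_of_associated p Q z hz
  have hF : (⟨Q, ‹_›⟩ : PrimeSpectrum B) ∈ Module.support B B := by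
    rw [Module.mem_support_iff_of_finite, Module.annihilator_eq_bot.2 inferInstance]; exact bot_le
  have hE : (⟨p, ‹_›⟩ : PrimeSpectrum A) ∈ Module.support A M := hsupp ▸ Set.mem_univ _
  obtain ⟨hd, hs⟩ := FlatLoc6.formulas_atPrime B M p Q hover hF hE
  have hT : (⟨Q, ‹_›⟩ : PrimeSpectrum B) ∈ Module.support B (B ⊗[A] M) :=
    (FlatLoc6.mem_support_tensor_iff _).2 ⟨hF, hsupp ▸ Set.mem_univ _⟩
  have hCMQ : LocCoh.IsCohenMacaulayModule (Localization.AtPrime Q) (LocalizedModule Q.primeCompl (B ⊗[A] M)) :=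
    LC.isCM_localized _ hCMB hT
  unfold LocCoh.IsCohenMacaulayModule at hCMQ
  rw [hd, hs, fibDepth_eq_zero_of_associated p Q z hz hover, add_zero, supportDim_fib p Q hover] at hCMQ
  haveI : Module.Finite (Localization.AtPrime p) (LocalizedModule p.primeCompl M) :=
    Module.Finite.of_isLocalizedModule p.primeCompl (LocalizedModule.mkLinearMap _ M)
  haveI : Nontrivial (LocalizedModule p.primeCompl M) := Module.mem_support_iff.1 hE
  have hle := LC.depth_le_supportDim (R := Localization.AtPrime p) (LocalizedModule p.primeCompl M)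
  obtain ⟨s, hs'⟩ := LC.exists_supportDim_eq_nat (R := Localization.AtPrime p) (LocalizedModule p.primeCompl M)
  obtain ⟨d, hd'⟩ := LC.exists_depth_eq_nat (R := Localization.AtPrime p) (LocalizedModule p.primeCompl M)
  refine minimal_of_dim_le_zero _ Q (Ideal.map_le_iff_le_comap.2 hover.ge) ?_
  rw [hs', hd'] at hCMQ hle
  generalize ringKrullDim (Localization.AtPrime Q ⧸
    (p.map (algebraMap A B)).map (algebraMap B (Localization.AtPrime Q))) = r at hCMQ ⊢
  induction r using WithBot.recBotCoe with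
  | bot => exact bot_le
  | coe r =>
    induction r using ENat.recTopCoe with
    | top =>
      exfalso
      rw [← WithBot.coe_natCast, ← WithBot.coe_add, add_top, WithBot.coe_inj] at hCMQ
      exact ENat.natCast_ne_top _ hCMQ.symm
    | coe r =>
      norm_cast at hCMQ hle ⊢
      omega

end FibreLemmas

variable (A)

theorem isFormallyStrictlyCatenary_of_CM (M : Type u) [AddCommGroup M] [Module A M] [Module.Finite A M]
    (hCM : LocCoh.IsCohenMacaulayModule A M) (hsupp : Module.support A M = Set.univ) :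
    EGA4.IsFormallyStrictlyCatenary A := by
  intro p hp
  haveI := FlatLoc6.isLocalRing_cpl A
  haveI := FlatLoc6.isNoetherianRing_cpl A
  haveI : IsLocalRing (A ⧸ p) := .of_surjective' _ Ideal.Quotient.mk_surjective
  haveI := FlatLoc6.faithfullyFlat_cpl A
  haveI : Nontrivial M := by
    rw [← Module.nonempty_support_iff (R := A), hsupp]
    exact Set.univ_nonempty
  haveI := FlatLoc6.isNoetherianRing_cpl (A ⧸ p)
  let J : Ideal (EGA4.Cpl A) := p.map (algebraMap A (EGA4.Cpl A))
  have heq := isEquidim_cpl_quotient (isFormallyEquidim_of_CM A M hCM hsupp) p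
  obtain ⟨e⟩ := FormalFib6.exists_cplQuotEquiv A (A ⧸ p) Ideal.Quotient.mk_surjective
  refine isStrictlyEquidim_of_ringEquiv (R := EGA4.Cpl A ⧸ J)
    (((Algebra.TensorProduct.quotIdealMapEquivTensorQuot (EGA4.Cpl A) p).toRingEquiv.trans
      (Algebra.TensorProduct.comm A (EGA4.Cpl A) (A ⧸ p)).toRingEquiv).trans e.toRingEquiv) fun y hy => ?_
  obtain ⟨hyp, w, hw⟩ := Alg6.mem_ass_iff.1 hy
  haveI := hyp
  obtain ⟨z, rfl⟩ := Ideal.Quotient.mk_surjective w
  have hmin := minimal_of_associated (B := EGA4.Cpl A) M (isCM_completion A M hCM) hsupp p (y.comap (Ideal.Quotient.mk J)) z fun a => by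
    rw [Ideal.mem_comap, hw, smul_eq_mul, ← map_mul, Ideal.Quotient.eq_zero_iff_mem]
  refine heq y ⟨⟨hyp, bot_le⟩, fun q hq hle => ?_⟩
  haveI := hq.1
  have h2 := hmin.2 ⟨inferInstance, Ideal.mk_ker.symm.le.trans (Ideal.ker_le_comap _)⟩ (Ideal.comap_mono hle)
  exact (Ideal.comap_le_comap_iff_of_surjective _ Ideal.Quotient.mk_surjective _ _).1 h2

end Completion

end Groth.Agent.FormCat
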