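import Groth.Agent.FormCat.Lift

/-!
# Formally catenary local rings are universally catenary
-/

set_option autoImplicit false
set_option linter.style.haveILetI false

open IsLocalRing Order

namespace Groth.Agent.FormCat

universe u

open DimFormula

theorem height_map_mk_le_one {R : Type u} [CommRing R] {Q P : PrimeSpectrum R} (h : Q ⋖ P) :
    (P.asIdeal.map (Ideal.Quotient.mk Q.asIdeal)).height ≤ 1 := by
  let π := Ideal.Quotient.mk Q.asIdeal
  have hπ : Function.Surjective π := Ideal.Quotient.mk_surjective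
  have hker : RingHom.ker π ≤ P.asIdeal := Ideal.mk_ker.le.trans h.le
  let P₁ : PrimeSpectrum (R ⧸ Q.asIdeal) := ⟨_, Ideal.map_isPrime_of_surjective hπ hker⟩
  show P₁.asIdeal.height ≤ 1
  rw [P₁.height_eq_orderHeight]
  refine height_le fun l hl => ?_
  have hlast : PrimeSpectrum.comap π l.last = P := by
    rw [hl]
    exact PrimeSpectrum.ext ((Ideal.comap_map_of_surjective π hπ _).trans (sup_eq_left.2 hker))
  by_contra hlen
  push Not at hlen
  have h2 : 2 ≤ l.length := by
    have : 1 < l.length := by exact_mod_cast hlen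
    omega
  let i : Fin (l.length + 1) := ⟨1, by omega⟩
  have hsm := RingHom.strictMono_comap_of_surjective hπ
  have h0 : Q ≤ PrimeSpectrum.comap π l.head :=
    show Q.asIdeal ≤ l.head.asIdeal.comap π from Ideal.mk_ker.symm.le.trans (Ideal.ker_le_comap π)
  have h1 : PrimeSpectrum.comap π l.head < PrimeSpectrum.comap π (l i) :=
    hsm (l.strictMono (show (0 : Fin (l.length + 1)) < i from Fin.mk_lt_mk.2 one_pos))
  have h3 : PrimeSpectrum.comap π (l i) < P :=
    hlast ▸ hsm (l.strictMono (show i < Fin.last l.length from Fin.mk_lt_mk.2 (by omega)))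
  exact h.2 (h0.trans_lt h1) h3

/-- `ht(P'/Q')` is at most `ht(P/Q)` for `P'` minimal over `P`. -/
theorem height_map_mk_le {R S : Type u} [CommRing R] [IsNoetherianRing R] [CommRing S] [IsNoetherianRing S]
    [Algebra R S] (Q P : Ideal R) [Q.IsPrime] [P.IsPrime] (hQP : Q ≤ P) (Q' P' : Ideal S) [Q'.IsPrime] [P'.IsPrime]
    (hP : P' ∈ (P.map (algebraMap R S)).minimalPrimes) (hover : P'.under R = P)
    (hQ' : Q.map (algebraMap R S) ≤ Q') (h : Q' ≤ P') :
    (P'.map (Ideal.Quotient.mk Q')).height ≤ (P.map (Ideal.Quotient.mk Q)).height := by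
  letI : Algebra (R ⧸ Q) (S ⧸ Q') :=
    (Ideal.quotientMap Q' (algebraMap R S) (Ideal.map_le_iff_le_comap.1 hQ')).toAlgebra
  let π := Ideal.Quotient.mk Q'
  have hπ : Function.Surjective π := Ideal.Quotient.mk_surjective
  have hkerP : RingHom.ker π ≤ P' := Ideal.mk_ker.le.trans h
  haveI : (P'.map π).IsPrime := Ideal.map_isPrime_of_surjective hπ hkerP
  haveI : (P.map (Ideal.Quotient.mk Q)).IsPrime :=
    Ideal.map_isPrime_of_surjective Ideal.Quotient.mk_surjective (Ideal.mk_ker.le.trans hQP)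
  have hcm : (P'.map π).comap π = P' := (Ideal.comap_map_of_surjective π hπ _).trans (sup_eq_left.2 hkerP)
  haveI : (P'.map π).LiesOver (P.map (Ideal.Quotient.mk Q)) := ⟨by
    refine Ideal.comap_injective_of_surjective (Ideal.Quotient.mk Q) Ideal.Quotient.mk_surjective ?_
    rw [Ideal.comap_map_of_surjective _ Ideal.Quotient.mk_surjective,
      ← RingHom.ker_eq_comap_bot, sup_eq_left.2 ((Ideal.mk_ker (I := Q)).le.trans hQP), Ideal.under, Ideal.comap_comap,
      show (algebraMap (R ⧸ Q) (S ⧸ Q')).comp (Ideal.Quotient.mk Q) = π.comp (algebraMap R S) from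
        RingHom.ext fun _ => rfl, ← Ideal.comap_comap, hcm]
    exact hover.symm⟩
  refine (Ideal.height_le_height_add_of_liesOver (P.map (Ideal.Quotient.mk Q)) (P'.map π)).trans
    ((add_le_add le_rfl (le_of_eq ?_)).trans (add_zero _).le)
  have hJ : (P.map (Ideal.Quotient.mk Q)).map (algebraMap (R ⧸ Q) (S ⧸ Q')) = (P.map (algebraMap R S)).map π := by
    rw [Ideal.map_map, Ideal.map_map]
    rfl
  let J := (P.map (Ideal.Quotient.mk Q)).map (algebraMap (R ⧸ Q) (S ⧸ Q'))
  let μ := Ideal.Quotient.mk J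
  have hμ : Function.Surjective μ := Ideal.Quotient.mk_surjective
  have hkerJ : RingHom.ker μ ≤ P'.map π := Ideal.mk_ker.le.trans (hJ.le.trans (Ideal.map_mono hP.1.2))
  haveI : ((P'.map π).map μ).IsPrime := Ideal.map_isPrime_of_surjective hμ hkerJ
  rw [Ideal.height_eq_zero_iff]
  refine ⟨⟨inferInstance, bot_le⟩, fun K hK hle => ?_⟩
  haveI := hK.1
  have h1 : (K.comap μ).comap π ≤ P' := by
    refine (Ideal.comap_mono (Ideal.comap_mono hle)).trans (le_of_eq ?_)
    rw [Ideal.comap_map_of_surjective _ hμ, ← RingHom.ker_eq_comap_bot, sup_eq_left.2 hkerJ, hcm]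
  have h2 := hP.2 ⟨inferInstance, by
    rw [← Ideal.map_le_iff_le_comap, ← hJ]
    exact Ideal.mk_ker.symm.le.trans (Ideal.ker_le_comap μ)⟩ h1
  exact Ideal.map_le_iff_le_comap.2 (Ideal.map_le_iff_le_comap.2 h2)

section Poly

variable (A : Type u) [CommRing A] [IsNoetherianRing A] [IsLocalRing A] {m : ℕ}

attribute [local instance] MvPolynomial.algebraMvPolynomial

theorem exists_lift {Q P : PrimeSpectrum (MvPolynomial (Fin m) A)} (h : Q ≤ P) :
    ∃ Q' P' : PrimeSpectrum (MvPolynomial (Fin m) (EGA4.Cpl A)), Q' ≤ P' ∧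
      Q'.asIdeal ∈ (Q.asIdeal.map (algebraMap (MvPolynomial (Fin m) A) (MvPolynomial (Fin m) (EGA4.Cpl A)))).minimalPrimes ∧
      P'.asIdeal ∈ (P.asIdeal.map (algebraMap (MvPolynomial (Fin m) A) (MvPolynomial (Fin m) (EGA4.Cpl A)))).minimalPrimes := by
  haveI := faithfullyFlat_poly A (m := m)
  let f := algebraMap (MvPolynomial (Fin m) A) (MvPolynomial (Fin m) (EGA4.Cpl A))
  have hne : P.asIdeal.map f ≠ ⊤ := fun htop => P.2.ne_top (by
    rw [← Ideal.comap_map_eq_self_of_faithfullyFlat (B := MvPolynomial (Fin m) (EGA4.Cpl A)) P.asIdeal, htop,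
      Ideal.comap_top])
  obtain ⟨P', hP'⟩ := Ideal.nonempty_minimalPrimes hne
  haveI := hP'.1.1
  haveI : P'.LiesOver P.asIdeal := ⟨(under_eq_of_mem_minimalPrimes P.asIdeal hP').symm⟩
  haveI := hP'.1.1
  obtain ⟨Q'', hle, hp, hover⟩ := Ideal.exists_ideal_le_liesOver_of_le P' (h : Q.asIdeal ≤ P.asIdeal)
  obtain ⟨Q', hQ', hle'⟩ := Ideal.exists_minimalPrimes_le
    (Ideal.map_le_iff_le_comap.2 hover.over.le : Q.asIdeal.map f ≤ Q'')
  exact ⟨⟨Q', hQ'.1.1⟩, ⟨P', hP'.1.1⟩, hle'.trans hle, hQ', hP'⟩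

theorem dlt_of_le (hA : EGA4.IsFormallyCatenary A) {Q P : PrimeSpectrum (MvPolynomial (Fin m) A)} (h : Q ≤ P) :
    ∃ t : ℕ, dlt A P.asIdeal + t = dlt A Q.asIdeal ∧ (t = 0 → Q = P) ∧ (Q ⋖ P → t ≤ 1) := by
  haveI := FlatLoc6.isLocalRing_cpl A
  haveI := FlatLoc6.isNoetherianRing_cpl A
  haveI := faithfullyFlat_poly A (m := m)
  haveI : IsAdicComplete (maximalIdeal (EGA4.Cpl A)) (EGA4.Cpl A) := by
    rw [AdicCompletion.maximalIdeal_eq_map_of_fg (IsNoetherian.noetherian (maximalIdeal A))]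
    exact AdicCompletion.isAdicComplete_self _ (IsNoetherian.noetherian _)
  obtain ⟨Q', P', hle, hQ', hP'⟩ := exists_lift A h
  have e := dlt_add_height (EGA4.Cpl A) Q'.asIdeal P'.asIdeal hle
  rw [dlt_eq_of_mem_minimalPrimes A hA Q.asIdeal Q'.asIdeal hQ',
    dlt_eq_of_mem_minimalPrimes A hA P.asIdeal P'.asIdeal hP'] at e
  obtain ⟨t, ht⟩ := ENat.ne_top_iff_exists.1 (show (P'.asIdeal.map (Ideal.Quotient.mk Q'.asIdeal)).height ≠ ⊤ by
    intro he
    rw [he, add_top] at e
    exact ENat.top_ne_natCast _ e)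
  rw [← ht] at e
  have hker : RingHom.ker (Ideal.Quotient.mk Q'.asIdeal) ≤ P'.asIdeal := Ideal.mk_ker.le.trans hle
  refine ⟨t, by exact_mod_cast e, fun h0 => ?_, fun hcov => ?_⟩
  · subst h0
    haveI : (P'.asIdeal.map (Ideal.Quotient.mk Q'.asIdeal)).IsPrime :=
      Ideal.map_isPrime_of_surjective Ideal.Quotient.mk_surjective hker
    have hb := (Ideal.height_eq_zero_iff_eq_bot).1 ht.symm
    have : P'.asIdeal ≤ Q'.asIdeal := fun x hx => Ideal.Quotient.eq_zero_iff_mem.1
      ((Ideal.mem_bot).1 (hb ▸ Ideal.mem_map_of_mem _ hx))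
    refine PrimeSpectrum.ext ?_
    rw [← under_eq_of_mem_minimalPrimes Q.asIdeal hQ', ← under_eq_of_mem_minimalPrimes P.asIdeal hP',
      le_antisymm (hle : Q'.asIdeal ≤ P'.asIdeal) this]
  · have h1 := (height_map_mk_le Q.asIdeal P.asIdeal h Q'.asIdeal P'.asIdeal hP'
      (under_eq_of_mem_minimalPrimes P.asIdeal hP') hQ'.1.2 hle).trans (height_map_mk_le_one hcov)
    rw [← ht] at h1
    exact_mod_cast h1

theorem dlt_lt (hA : EGA4.IsFormallyCatenary A) {Q P : PrimeSpectrum (MvPolynomial (Fin m) A)} (h : Q < P) :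
    dlt A P.asIdeal < dlt A Q.asIdeal := by
  obtain ⟨t, ht, h0, -⟩ := dlt_of_le A hA h.le
  have : t ≠ 0 := fun e => h.ne (h0 e)
  omega

theorem dlt_covBy (hA : EGA4.IsFormallyCatenary A) {Q P : PrimeSpectrum (MvPolynomial (Fin m) A)} (h : Q ⋖ P) :
    dlt A P.asIdeal + 1 = dlt A Q.asIdeal := by
  obtain ⟨t, ht, h0, h1⟩ := dlt_of_le A hA h.le
  have : t ≠ 0 := fun e => h.ne (h0 e)
  have := h1 h
  omega

theorem isCatenary_mvPolynomial (hA : EGA4.IsFormallyCatenary A) :
    CAlg.IsCatenary (MvPolynomial (Fin m) A) := by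
  have key : ∀ s : LTSeries (PrimeSpectrum (MvPolynomial (Fin m) A)),
      dlt A s.last.asIdeal + s.length ≤ dlt A s.head.asIdeal ∧
      ((∀ i : Fin s.length, s (Fin.castSucc i) ⋖ s (Fin.succ i)) →
        dlt A s.last.asIdeal + s.length = dlt A s.head.asIdeal) := by
    intro s
    have h : ∀ i : Fin (s.length + 1), dlt A (s i).asIdeal + i ≤ dlt A s.head.asIdeal ∧
        ((∀ i : Fin s.length, s (Fin.castSucc i) ⋖ s (Fin.succ i)) →
          dlt A (s i).asIdeal + i = dlt A s.head.asIdeal) := by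
      intro i
      induction i using Fin.induction with
      | zero => exact ⟨le_rfl, fun _ => rfl⟩
      | succ i ih =>
        refine ⟨?_, fun hc => ?_⟩
        · have h1 := dlt_lt A hA (s.strictMono (Fin.castSucc_lt_succ (i := i)))
          have h2 := ih.1
          simp only [Fin.val_succ, Fin.val_castSucc] at *
          omega
        · have h1 := dlt_covBy A hA (hc i)
          have h2 := ih.2 hc
          simp only [Fin.val_succ, Fin.val_castSucc] at *
          omega
    exact ⟨(h (Fin.last _)).1, (h (Fin.last _)).2⟩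
  refine ⟨fun p q _ => ⟨dlt A p.asIdeal, fun s h1 _ => ?_⟩, fun s t h1 h2 hs ht => ?_⟩
  · have := (key s).1
    rw [h1] at this
    omega
  · have e1 := (key s).2 hs
    have e2 := (key t).2 ht
    rw [h1, h2] at e1
    omega

theorem isUniversallyCatenary (hA : EGA4.IsFormallyCatenary A) : CAlg.IsUniversallyCatenary A := by
  refine ⟨inferInstance, fun S _ _ hS => ?_⟩
  obtain ⟨m, π, hπ⟩ := Algebra.FiniteType.iff_quotient_mvPolynomial''.1 hS
  refine isCatenary_of_embedding (isCatenary_mvPolynomial A (m := m) hA) (PrimeSpectrum.comap π.toRingHom)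
    (fun a b => Ideal.comap_le_comap_iff_of_surjective π.toRingHom hπ _ _) fun a b x hax _ => ?_
  rw [_root_.range_comap_of_surjective _ _ hπ]
  exact (Ideal.ker_le_comap π.toRingHom).trans hax

end Poly

end Groth.Agent.FormCat
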