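import Groth.Agent.FormCat.HenselDomain
import Groth.Agent.PopescuLib.HenzGRing
import Groth.Agent.S2670
import Groth.Agent.S4754
import Groth.Agent.CplFib6.QuotReg

/-!
# Henselization and geometrically normal formal fibres
-/

set_option linter.style.haveILetI false

namespace Groth.Agent.FormCat

universe u

open IsLocalRing TensorProduct

/-- The image field of a reduced ring integral over it is a localization. -/
theorem isLocalization_residue_of_isIntegral (L T : Type u) [Field L] [CommRing T] [Algebra L T] [IsReduced T]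
    [Algebra.IsIntegral L T] [Algebra T L] [IsScalarTower L T L] [(RingHom.ker (algebraMap T L)).IsPrime] :
    IsLocalization (RingHom.ker (algebraMap T L)).primeCompl L := by
  set P := RingHom.ker (algebraMap T L) with hP
  have hkill : ∀ a ∈ P, ∃ c, c ∉ P ∧ c * a = 0 := fun a ha => by
    have hmem : algebraMap T (Localization.AtPrime P) a ∈ nilradical (Localization.AtPrime P) := by
      rw [nilradical_eq_sInf, Submodule.mem_sInf]
      intro (Q : Ideal (Localization.AtPrime P)) (hQ : Q.IsPrime)
      have hd := ((IsLocalization.isPrime_iff_isPrime_disjoint P.primeCompl (Localization.AtPrime P) Q).mp hQ).2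
      have hle : Q.comap (algebraMap T (Localization.AtPrime P)) ≤ P := fun t ht => by
        by_contra htP
        exact Set.disjoint_left.mp hd htP ht
      haveI hQm : (Q.comap (algebraMap T (Localization.AtPrime P))).IsMaximal := by
        refine Ideal.isMaximal_of_isIntegral_of_isMaximal_comap (R := L) _ ?_
        haveI : (Q.comap (algebraMap T (Localization.AtPrime P))).IsPrime := Ideal.comap_isPrime _ _
        have : (Q.comap (algebraMap T (Localization.AtPrime P))).comap (algebraMap L T) = ⊥ :=
          ((Ideal.eq_bot_or_top _).resolve_right (Ideal.IsPrime.ne_top (Ideal.comap_isPrime _ _)))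
        rw [this]
        exact Ideal.bot_isMaximal
      exact (hQm.eq_of_le (Ideal.IsPrime.ne_top inferInstance) hle).ge ha
    obtain ⟨n, hn⟩ := mem_nilradical.mp hmem
    rw [← map_pow, IsLocalization.map_eq_zero_iff P.primeCompl] at hn
    obtain ⟨⟨c, hc⟩, hca⟩ := hn
    refine ⟨c, hc, IsReduced.eq_zero _ ⟨n + 1, ?_⟩⟩
    calc (c * a) ^ (n + 1) = c ^ n * a * (c * a ^ n) := by ring
      _ = 0 := by rw [show c * a ^ n = 0 from hca, mul_zero]
  refine { map_units := fun y => isUnit_iff_ne_zero.mpr y.2, surj := fun z => ⟨⟨algebraMap L T z, 1⟩, ?_⟩, exists_of_eq := fun {x y} h => ?_ }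
  · rw [OneMemClass.coe_one, map_one, mul_one]
    exact IsScalarTower.algebraMap_apply L T L z
  · obtain ⟨c, hc, h0⟩ := hkill (x - y) (by rw [hP, RingHom.mem_ker, map_sub, h, sub_self])
    exact ⟨⟨c, hc⟩, sub_eq_zero.mp (by rw [← mul_sub]; exact h0)⟩

theorem isIntegral_pi {k : Type u} [CommRing k] {n : ℕ} (K : Fin n → Type u) [∀ i, CommRing (K i)]
    [∀ i, Algebra k (K i)] [∀ i, Algebra.IsIntegral k (K i)] : Algebra.IsIntegral k (∀ i, K i) := ⟨fun x => by
  choose f hf hf' using fun i => Algebra.IsIntegral.isIntegral (R := k) (x i)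
  refine ⟨∏ i, f i, Polynomial.monic_prod_of_monic _ _ fun i _ => hf i, funext fun j => ?_⟩
  rw [← Polynomial.aeval_def]
  show Pi.evalAlgHom k K j (Polynomial.aeval x (∏ i, f i)) = 0
  rw [← Polynomial.aeval_algHom_apply, map_prod]
  exact Finset.prod_eq_zero (Finset.mem_univ j) (hf' j)⟩

variable {R S : Type u} [CommRing R] [IsLocalRing R] [IsNoetherianRing R] [CommRing S] [IsLocalRing S] [Algebra R S]
  [IsLocalHom (algebraMap R S)] [_root_.Hensel.IsHenselization R S]

/-- Geometrically normal formal fibres pass to the henselization. -/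
theorem hasGeomNormalFormalFibres_henselization [IsNoetherianRing S] (hR : EGA4.HasGeomNormalFormalFibres R) :
    EGA4.HasGeomNormalFormalFibres S := by
  have hH := Hensel.isHenzLike_of_isHenselization (R := R) (S := S)
  haveI : Module.FaithfullyFlat R S := hH.faithfullyFlat
  have hB := (Hensel.isPairHenselization_iff_isHenselization R S).2 inferInstance
  have hm := hH.map_maximalIdeal
  have hs : ∀ b : S, ∃ a, b - algebraMap R S a ∈ maximalIdeal S := fun b => by
    obtain ⟨a, ha⟩ := Hensel.exists_sub_mem_of_isPairHenselization (maximalIdeal R) hB b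
    exact ⟨a, hm.le ha⟩
  haveI := FlatLoc6.isNoetherianRing_cpl R
  haveI := FlatLoc6.isNoetherianRing_cpl S
  haveI := FlatLoc6.faithfullyFlat_cpl R
  obtain ⟨_, hst, hbij⟩ := PopescuLib.exists_cpl_iso R S hm hs
  haveI := hst
  let C := EGA4.Cpl S
  have hC : EGA4.IsNormalHom R C := FormalFib6.isNormalHom_of_algEquiv
    (AlgEquiv.ofBijective (IsScalarTower.toAlgHom R (EGA4.Cpl R) C) hbij) ⟨inferInstance, hR⟩
  intro q _ L _ _ hL
  haveI := hL
  letI : Algebra S L := ((algebraMap q.ResidueField L).comp (algebraMap S q.ResidueField)).toAlgebra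
  haveI : IsScalarTower S q.ResidueField L := IsScalarTower.of_algebraMap_eq' rfl
  letI : Algebra R L := ((algebraMap S L).comp (algebraMap R S)).toAlgebra
  haveI : IsScalarTower R S L := IsScalarTower.of_algebraMap_eq' rfl
  haveI : (RingHom.ker (algebraMap R L)).IsPrime := RingHom.ker_isPrime _
  let p := RingHom.ker (algebraMap R L)
  obtain ⟨_, _⟩ := FlatLoc6.exists_residueAlgebra (L := L) p rfl
  let T := S ⊗[R] L
  haveI : IsReduced T := hH.isReduced_tensor L
  letI : Algebra L T := Algebra.TensorProduct.rightAlgebra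
  haveI : Algebra.IsIntegral L T := by
    obtain ⟨n, K, _, _, hK, ⟨e⟩⟩ := hH.exists_fibre_equiv_pi p
    haveI := hK
    haveI : Algebra.IsIntegral p.ResidueField (p.ResidueField ⊗[R] S) :=
      haveI := isIntegral_pi (k := p.ResidueField) K
      e.isIntegral_iff.mpr inferInstance
    haveI : Algebra.IsIntegral L (L ⊗[R] S) :=
      (Algebra.TensorProduct.cancelBaseChange R p.ResidueField L L S).isIntegral_iff.mp inferInstance
    let g : L ⊗[R] S ≃ₐ[L] T := { (Algebra.TensorProduct.comm R L S).toRingEquiv with
      commutes' := fun z => by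
        show Algebra.TensorProduct.comm R L S (z ⊗ₜ 1) = (1 : S) ⊗ₜ z
        simp }
    exact g.isIntegral_iff.mp inferInstance
  letI : Algebra T L := (Algebra.TensorProduct.lift (IsScalarTower.toAlgHom R S L) (AlgHom.id R L)
    fun _ _ => Commute.all _ _).toRingHom.toAlgebra
  haveI : IsScalarTower L T L := IsScalarTower.of_algebraMap_eq fun z => by
    show _ = Algebra.TensorProduct.lift (IsScalarTower.toAlgHom R S L) (AlgHom.id R L) _ ((1 : S) ⊗ₜ z)
    simp
  haveI : (RingHom.ker (algebraMap T L)).IsPrime := RingHom.ker_isPrime _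
  haveI hloc := isLocalization_residue_of_isIntegral L T
  haveI : IsScalarTower S T L := IsScalarTower.of_algebraMap_eq fun s => by
    show _ = Algebra.TensorProduct.lift (IsScalarTower.toAlgHom R S L) (AlgHom.id R L) _ (s ⊗ₜ (1 : L))
    simp
  -- base change along `S → C`
  letI : Algebra (T ⊗[S] C) (L ⊗[S] C) :=
    (Algebra.TensorProduct.map (IsScalarTower.toAlgHom S T L) (AlgHom.id S C)).toRingHom.toAlgebra
  haveI : IsScalarTower T (T ⊗[S] C) (L ⊗[S] C) := IsScalarTower.of_algebraMap_eq fun c => by
    show _ = Algebra.TensorProduct.map (IsScalarTower.toAlgHom S T L) (AlgHom.id S C) (c ⊗ₜ 1)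
    simp
  haveI := IsLocalization.tensorProduct_tensorProduct (R := S) (A := T) (S := C)
    (RingHom.ker (algebraMap T L)).primeCompl L (RingHom.ext fun x => by
      show Algebra.TensorProduct.map (IsScalarTower.toAlgHom S T L) (AlgHom.id S C) (1 ⊗ₜ x) = _
      simp)
  have hL' : EGA4.IsNormalRing L := by
    haveI : IsRegularRing L := CplFib6.isRegularRing_of_local L
    exact FlatLoc6.isNormalRing_of_isRegularRing L
  have h1 : EGA4.IsNormalRing (C ⊗[R] L) := S2670.result R C hC L hL'
  have h2 : EGA4.IsNormalRing (T ⊗[S] C) := FlatLoc6.isNormalRing_of_ringEquiv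
    ((Algebra.TensorProduct.cancelBaseChange R S S C L).symm.toRingEquiv.trans
      (Algebra.TensorProduct.comm S C (S ⊗[R] L)).toRingEquiv) h1
  have h3 : EGA4.IsNormalRing (L ⊗[S] C) := FlatLoc6.isNormalRing_of_isLocalization
    (Algebra.algebraMapSubmonoid (T ⊗[S] C) (RingHom.ker (algebraMap T L)).primeCompl) _ h2
  exact FlatLoc6.isNormalRing_of_ringEquiv
    (Algebra.TensorProduct.cancelBaseChange S q.ResidueField L L C).symm.toRingEquiv h3

/-- Henselian rings with geometrically normal formal fibres are formally catenary. -/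
theorem isFormallyCatenary_of_henselian (A : Type u) [CommRing A] [IsNoetherianRing A] [HenselianLocalRing A]
    (hA : EGA4.HasGeomNormalFormalFibres A) : EGA4.IsFormallyCatenary A := by
  intro p _
  haveI : IsLocalRing (A ⧸ p) := .of_surjective' _ Ideal.Quotient.mk_surjective
  haveI : HenselianLocalRing (A ⧸ p) := Hensel.henselianLocalRing_of_finite A (A ⧸ p)
  haveI := isDomain_cpl_of_henselian (A ⧸ p) (S4754.result A hA p)
  intro P hP
  rw [IsDomain.minimalPrimes_eq_singleton_bot, Set.mem_singleton_iff] at hP
  subst hP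
  exact ringKrullDim_eq_of_ringEquiv (RingEquiv.quotientBot _)

end Groth.Agent.FormCat
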