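import Groth.Agent.FormCat.Regular
import Groth.Agent.FibDim.BaseChange
import Groth.Agent.FlatLoc6.Cpl
import Groth.Agent.FormalFib6.Quot
import Groth.Agent.S0547
import Mathlib.RingTheory.Ideal.GoingDown

/-!
# Descent of the dimension function from the completion
-/

set_option autoImplicit false
set_option linter.style.haveILetI false

open IsLocalRing TensorProduct

namespace Groth.Agent.FormCat

universe u

open DimFormula

variable {R S : Type u} [CommRing R] [CommRing S] [Algebra R S] [Algebra.HasGoingDown R S]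

theorem under_eq_of_mem_minimalPrimes (Q : Ideal R) [Q.IsPrime] {Q' : Ideal S}
    (h : Q' ∈ (Q.map (algebraMap R S)).minimalPrimes) : Q'.under R = Q := by
  haveI := h.1.1
  haveI : Q'.LiesOver (Q'.under R) := ⟨rfl⟩
  have hle : Q ≤ Q'.under R := Ideal.map_le_iff_le_comap.1 h.1.2
  obtain ⟨Q'', hle', hp, hover⟩ := Ideal.exists_ideal_le_liesOver_of_le Q' hle
  have : Q' ≤ Q'' := h.2 ⟨hp, Ideal.map_le_iff_le_comap.2 hover.over.le⟩ hle'
  rw [le_antisymm this hle', ← hover.over]

theorem height_eq_of_mem_minimalPrimes [IsNoetherianRing R] [IsNoetherianRing S] (Q : Ideal R) [Q.IsPrime]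
    {Q' : Ideal S} [Q'.IsPrime] (h : Q' ∈ (Q.map (algebraMap R S)).minimalPrimes) : Q'.height = Q.height := by
  haveI : Q'.LiesOver Q := ⟨(under_eq_of_mem_minimalPrimes Q h).symm⟩
  rw [Ideal.height_eq_height_add_of_liesOver_of_hasGoingDown Q Q']
  have h0 : (Q'.map (Ideal.Quotient.mk (Q.map (algebraMap R S)))).height = 0 := by
    haveI : (Q'.map (Ideal.Quotient.mk (Q.map (algebraMap R S)))).IsPrime :=
      Ideal.map_isPrime_of_surjective Ideal.Quotient.mk_surjective (by rw [Ideal.mk_ker]; exact h.1.2)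
    rw [Ideal.height_eq_zero_iff]
    refine ⟨⟨inferInstance, bot_le⟩, fun J hJ hle => ?_⟩
    haveI := hJ.1
    have h1 : J.comap (Ideal.Quotient.mk (Q.map (algebraMap R S))) ≤ Q' := by
      refine (Ideal.comap_mono hle).trans (le_of_eq ?_)
      rw [Ideal.comap_map_of_surjective _ Ideal.Quotient.mk_surjective, sup_eq_left]
      exact (Ideal.mk_ker (I := Q.map (algebraMap R S))).le.trans h.1.2
    have h2 := h.2 ⟨inferInstance, Ideal.mk_ker.symm.le.trans (Ideal.ker_le_comap _)⟩ h1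
    exact Ideal.map_le_iff_le_comap.2 h2
  rw [h0, add_zero]

theorem mem_minimalPrimes_of_height_eq [IsNoetherianRing R] [IsNoetherianRing S] (Q : Ideal R) [Q.IsPrime]
    {Q' : Ideal S} [Q'.IsPrime] (hQ : Q'.under R = Q) (h : Q'.height = Q.height) :
    Q' ∈ (Q.map (algebraMap R S)).minimalPrimes := by
  haveI : Q'.LiesOver Q := ⟨hQ.symm⟩
  refine ⟨⟨inferInstance, Ideal.map_le_iff_le_comap.2 hQ.ge⟩, fun J hJ hle => ?_⟩
  haveI := hJ.1
  by_contra hne
  have hlt : J < Q' := lt_of_le_not_ge hle hne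
  have hover : J.under R = Q := le_antisymm ((Ideal.comap_mono hle).trans hQ.le) (Ideal.map_le_iff_le_comap.1 hJ.2)
  haveI : J.LiesOver Q := ⟨hover.symm⟩
  have h1 : Q.height ≤ J.height := by
    rw [Ideal.height_eq_height_add_of_liesOver_of_hasGoingDown Q J]
    exact le_self_add
  have h2 := Ideal.height_strict_mono_of_isPrime_of_isPrime hlt
  exact absurd (h1.trans_lt h2) (by rw [h]; exact lt_irrefl _)

section Poly

variable (A : Type u) [CommRing A] [IsNoetherianRing A] [IsLocalRing A] {m : ℕ}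

attribute [local instance] MvPolynomial.algebraMvPolynomial

theorem faithfullyFlat_poly :
    Module.FaithfullyFlat (MvPolynomial (Fin m) A) (MvPolynomial (Fin m) (EGA4.Cpl A)) := by
  haveI := FlatLoc6.faithfullyFlat_cpl A
  exact Module.FaithfullyFlat.of_linearEquiv _ _
    (Algebra.IsPushout.equiv A (MvPolynomial (Fin m) A) (EGA4.Cpl A) (MvPolynomial (Fin m) (EGA4.Cpl A))).symm.toLinearEquiv

theorem fd_le_of_under_eq (Q : Ideal (MvPolynomial (Fin m) A)) [Q.IsPrime]
    (Q' : Ideal (MvPolynomial (Fin m) (EGA4.Cpl A))) [Q'.IsPrime]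
    (h : Q'.under (MvPolynomial (Fin m) A) = Q) : fd (EGA4.Cpl A) Q' ≤ fd A Q := by
  subst h
  let e := MvPolynomial.algebraTensorAlgEquiv (σ := Fin m) A (EGA4.Cpl A)
  have he : ∀ G : MvPolynomial (Fin m) A, e (1 ⊗ₜ[A] G) = algebraMap _ (MvPolynomial (Fin m) (EGA4.Cpl A)) G :=
    fun G => by
    rw [show e (1 ⊗ₜ[A] G) = (1 : EGA4.Cpl A) • MvPolynomial.map (algebraMap A (EGA4.Cpl A)) G from
      MvPolynomial.algebraTensorAlgEquiv_tmul .., one_smul]
    rfl
  have hc : (Q'.comap e.toAlgHom.toRingHom).comap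
      (Algebra.TensorProduct.includeRight (R := A) (A := EGA4.Cpl A) (B := MvPolynomial (Fin m) A)).toRingHom =
      Q'.under (MvPolynomial (Fin m) A) := by
    ext G
    simp only [Ideal.mem_comap, AlgHom.toRingHom_eq_coe, RingHom.coe_coe, Algebra.TensorProduct.includeRight_apply,
      AlgEquiv.coe_toAlgHom, he]
  have h1 : fd (EGA4.Cpl A) (Q'.comap e.toAlgHom.toRingHom) = fd (EGA4.Cpl A) Q' :=
    fd_comap_of_surjective (EGA4.Cpl A) e.toAlgHom e.surjective Q'
  rw [← h1]
  obtain ⟨t, ht⟩ := (le_fd_iff (EGA4.Cpl A) (Q'.comap e.toAlgHom.toRingHom) _).1 le_rfl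
  have h2 := FibDim.dim_fiber_quotient_baseChange_le _ t ht
  have key : ∀ (J : Ideal (MvPolynomial (Fin m) A)) [J.IsPrime] (J' : Ideal (MvPolynomial (Fin m) A)) [J'.IsPrime],
      J = J' → fd A J = fd A J' := by
    intro J _ J' _ e
    subst e
    rfl
  rw [← key _ _ hc]
  rw [coe_fd] at h2
  exact_mod_cast h2

theorem dlt_eq_of_mem_minimalPrimes (hA : EGA4.IsFormallyCatenary A) (Q : Ideal (MvPolynomial (Fin m) A))
    [Q.IsPrime] (Q' : Ideal (MvPolynomial (Fin m) (EGA4.Cpl A))) [Q'.IsPrime]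
    (h : Q' ∈ (Q.map (algebraMap (MvPolynomial (Fin m) A) (MvPolynomial (Fin m) (EGA4.Cpl A)))).minimalPrimes) :
    dlt (EGA4.Cpl A) Q' = dlt A Q := by
  haveI := FlatLoc6.isLocalRing_cpl A
  haveI := FlatLoc6.isNoetherianRing_cpl A
  haveI := FlatLoc6.faithfullyFlat_cpl A
  haveI := faithfullyFlat_poly A (m := m)
  let T := MvPolynomial (Fin m) A
  let T' := MvPolynomial (Fin m) (EGA4.Cpl A)
  haveI : IsScalarTower A T T' := IsScalarTower.of_algebraMap_eq fun a => by
    show _ = MvPolynomial.map (algebraMap A (EGA4.Cpl A)) (MvPolynomial.C a)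
    rw [MvPolynomial.map_C]
    rfl
  have hQ := under_eq_of_mem_minimalPrimes Q h
  let q' := Q'.under (EGA4.Cpl A)
  let q := Q.under A
  have hq : q'.under A = q := by
    show (Q'.under (EGA4.Cpl A)).under A = Q.under A
    rw [Ideal.under_under, ← hQ, Ideal.under_under]
  -- heights
  have hht := height_eq_of_mem_minimalPrimes Q h
  have e1 := height_add_fd_mvPolynomial A ⟨Q, inferInstance⟩
  have e2 := height_add_fd_mvPolynomial (EGA4.Cpl A) ⟨Q', inferInstance⟩
  rw [← PrimeSpectrum.height_eq_orderHeight, ← PrimeSpectrum.height_eq_orderHeight] at e1 e2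
  change Q.height + (fd A Q : ℕ∞) = q.height + m at e1
  change Q'.height + (fd (EGA4.Cpl A) Q' : ℕ∞) = q'.height + m at e2
  have hle := fd_le_of_under_eq A Q Q' hQ
  haveI : q'.LiesOver q := ⟨hq.symm⟩
  have hge : q.height ≤ q'.height := by
    rw [Ideal.height_eq_height_add_of_liesOver_of_hasGoingDown q q']
    exact le_self_add
  obtain ⟨a, ha⟩ := ENat.ne_top_iff_exists.1 (Ideal.height_ne_top (I := Q) (Ideal.IsPrime.ne_top inferInstance))
  obtain ⟨b, hb⟩ := ENat.ne_top_iff_exists.1 (Ideal.height_ne_top (I := q) (Ideal.IsPrime.ne_top inferInstance))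
  obtain ⟨b', hb'⟩ := ENat.ne_top_iff_exists.1 (Ideal.height_ne_top (I := q') (Ideal.IsPrime.ne_top inferInstance))
  rw [← ha, ← hb] at e1
  rw [hht, ← ha, ← hb'] at e2
  rw [← hb, ← hb'] at hge
  have e1' : a + fd A Q = b + m := by exact_mod_cast e1
  have e2' : a + fd (EGA4.Cpl A) Q' = b' + m := by exact_mod_cast e2
  have hge' : b ≤ b' := by exact_mod_cast hge
  have hfd : fd (EGA4.Cpl A) Q' = fd A Q := by omega
  have hmin : q' ∈ (q.map (algebraMap A (EGA4.Cpl A))).minimalPrimes :=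
    mem_minimalPrimes_of_height_eq q hq (by rw [← hb, ← hb']; exact_mod_cast (by omega : b' = b))
  -- the formal equidimensionality of `A/q`
  haveI : IsLocalRing (A ⧸ q) := .of_surjective' _ Ideal.Quotient.mk_surjective
  obtain ⟨e⟩ := FormalFib6.exists_cplQuotEquiv A (A ⧸ q) Ideal.Quotient.mk_surjective
  let ε : (EGA4.Cpl A ⧸ q.map (algebraMap A (EGA4.Cpl A))) ≃+* EGA4.Cpl (A ⧸ q) :=
    ((Algebra.TensorProduct.quotIdealMapEquivTensorQuot (EGA4.Cpl A) q).toRingEquiv.trans
      (Algebra.TensorProduct.comm A (EGA4.Cpl A) (A ⧸ q)).toRingEquiv).trans e.toRingEquiv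
  let ψ : EGA4.Cpl A →+* EGA4.Cpl (A ⧸ q) := ε.toRingHom.comp (Ideal.Quotient.mk _)
  have hψ : Function.Surjective ψ := ε.surjective.comp Ideal.Quotient.mk_surjective
  have hker : RingHom.ker ψ = q.map (algebraMap A (EGA4.Cpl A)) := by
    ext x
    rw [RingHom.mem_ker, ← Ideal.Quotient.eq_zero_iff_mem]
    exact map_eq_zero_iff ε.toRingHom ε.injective
  have hm' : q'.map ψ ∈ minimalPrimes (EGA4.Cpl (A ⧸ q)) := by
    have hkq : RingHom.ker ψ ≤ q' := hker.le.trans hmin.1.2
    refine ⟨⟨Ideal.map_isPrime_of_surjective hψ hkq, bot_le⟩, fun J hJ hle => ?_⟩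
    haveI := hJ.1
    have h1 : J.comap ψ ≤ q' := by
      refine (Ideal.comap_mono hle).trans (le_of_eq ?_)
      rw [Ideal.comap_map_of_surjective _ hψ, sup_eq_left]
      exact hkq
    exact Ideal.map_le_iff_le_comap.2 (hmin.2 ⟨inferInstance, hker.ge.trans (Ideal.ker_le_comap ψ)⟩ h1)
  have hdim : ringKrullDim (EGA4.Cpl A ⧸ q') = ringKrullDim (A ⧸ q) := by
    rw [← S0547.result (A ⧸ q)]
    refine Eq.trans (ringKrullDim_eq_of_ringEquiv ?_) (hA q (q'.map ψ) hm')
    have hk : RingHom.ker ((Ideal.Quotient.mk (q'.map ψ)).comp ψ) = q' := by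
      rw [← RingHom.comap_ker, Ideal.mk_ker, Ideal.comap_map_of_surjective _ hψ, sup_eq_left]
      exact hker.le.trans hmin.1.2
    exact (Ideal.quotEquivOfEq hk.symm).trans
      (RingHom.quotientKerEquivOfSurjective (Ideal.Quotient.mk_surjective.comp hψ))
  have hqd : qd (EGA4.Cpl A) q' = qd A q := by rw [qd, qd, hdim]
  show qd (EGA4.Cpl A) q' + fd (EGA4.Cpl A) Q' = qd A q + fd A Q
  rw [hqd, hfd]

end Poly

end Groth.Agent.FormCat
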