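import Groth.Agent.FormCat.Catenary

/-!
# Localizations of quotients at a prime
-/

set_option autoImplicit false
set_option linter.style.haveILetI false

open IsLocalRing Order

namespace Groth.Agent.FormCat

universe u

open DimFormula

variable {R X : Type u} [CommRing R] [CommRing X] [IsLocalRing X] (φ : R →+* X)

/-- Every element is a fraction of images. -/
def IsFracs : Prop :=
  ∀ x : X, ∃ r s : R, IsUnit (φ s) ∧ x * φ s = φ r

/-- The contraction of the maximal ideal. -/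
def cp : PrimeSpectrum R := PrimeSpectrum.comap φ (closedPoint X)

variable {φ}

theorem IsFracs.comap_le_iff (hφ : IsFracs φ) (x y : PrimeSpectrum X) :
    PrimeSpectrum.comap φ x ≤ PrimeSpectrum.comap φ y ↔ x ≤ y := by
  refine ⟨fun h z hz => ?_, fun h => Ideal.comap_mono h⟩
  obtain ⟨r, s, hs, he⟩ := hφ z
  have h1 : φ r ∈ x.asIdeal := he ▸ x.asIdeal.mul_mem_right _ hz
  have h2 : φ r ∈ y.asIdeal := h (show r ∈ (PrimeSpectrum.comap φ x).asIdeal from h1)
  rw [← he] at h2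
  exact (Ideal.mul_unit_mem_iff_mem _ hs).1 h2

theorem isUnit_iff_notMem (s : R) : IsUnit (φ s) ↔ s ∉ (cp φ).asIdeal :=
  notMem_maximalIdeal.symm

theorem IsFracs.mem_range (hφ : IsFracs φ) (Q : PrimeSpectrum R) (hk : RingHom.ker φ ≤ Q.asIdeal)
    (hP : Q ≤ cp φ) : Q ∈ Set.range (PrimeSpectrum.comap φ) := by
  rw [PrimeSpectrum.mem_range_comap_iff]
  refine le_antisymm (fun r hr => ?_) Ideal.le_comap_map
  let J : Ideal X :=
    { carrier := {x | ∃ q s : R, q ∈ Q.asIdeal ∧ IsUnit (φ s) ∧ x * φ s = φ q}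
      zero_mem' := ⟨0, 1, zero_mem _, by simp, by simp⟩
      add_mem' := by
        rintro a b ⟨q, s, hq, hs, he⟩ ⟨q', s', hq', hs', he'⟩
        refine ⟨q * s' + q' * s, s * s', add_mem (Ideal.mul_mem_right _ _ hq) (Ideal.mul_mem_right _ _ hq'),
          by rw [map_mul]; exact hs.mul hs', ?_⟩
        rw [map_add, map_mul, map_mul, map_mul, ← he, ← he']
        ring
      smul_mem' := by
        rintro c b ⟨q, s, hq, hs, he⟩
        obtain ⟨r, t, ht, he'⟩ := hφ c
        refine ⟨r * q, t * s, Ideal.mul_mem_left _ _ hq, by rw [map_mul]; exact ht.mul hs, ?_⟩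
        rw [map_mul, map_mul, ← he, ← he', smul_eq_mul]
        ring }
  have hle : Q.asIdeal.map φ ≤ J := Ideal.map_le_iff_le_comap.2 fun q hq => ⟨q, 1, hq, by simp, by simp⟩
  obtain ⟨q, s, hq, hs, he⟩ := hle hr
  have h0 : r * s - q ∈ Q.asIdeal := hk (by rw [RingHom.mem_ker, map_sub, map_mul, he, sub_self])
  have h1 : r * s ∈ Q.asIdeal := by
    have := add_mem h0 hq
    rwa [sub_add_cancel] at this
  exact (Q.2.mem_or_mem h1).resolve_right fun hsQ => (isUnit_iff_notMem s).1 hs (hP hsQ)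

theorem comap_le_cp (x : PrimeSpectrum X) : PrimeSpectrum.comap φ x ≤ cp φ :=
  Ideal.comap_mono (le_maximalIdeal x.2.ne_top)

theorem ker_le_comap (x : PrimeSpectrum X) : RingHom.ker φ ≤ (PrimeSpectrum.comap φ x).asIdeal :=
  Ideal.ker_le_comap φ

/-- The dimension of `X/x` is the height of the closed point over the image of `x`. -/
theorem IsFracs.ringKrullDim_quotient (hφ : IsFracs φ) (x : PrimeSpectrum X) :
    ringKrullDim (X ⧸ x.asIdeal) =
      (((cp φ).asIdeal.map (Ideal.Quotient.mk (PrimeSpectrum.comap φ x).asIdeal)).height : WithBot ℕ∞) := by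
  let Q := PrimeSpectrum.comap φ x
  let π := Ideal.Quotient.mk Q.asIdeal
  have hQP : Q ≤ cp φ := comap_le_cp x
  let P₁ : PrimeSpectrum (R ⧸ Q.asIdeal) :=
    ⟨(cp φ).asIdeal.map π, Ideal.map_isPrime_of_surjective Ideal.Quotient.mk_surjective (Ideal.mk_ker.le.trans hQP)⟩
  have hcP : PrimeSpectrum.comap π P₁ = cp φ := PrimeSpectrum.ext
    ((Ideal.comap_map_of_surjective π Ideal.Quotient.mk_surjective _).trans
      (sup_eq_left.2 ((Ideal.mk_ker (I := Q.asIdeal)).le.trans hQP)))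
  have hge : Q ≤ PrimeSpectrum.comap π P₁ := hcP.symm ▸ hQP
  have h1 : height (⟨PrimeSpectrum.comap π P₁, hge⟩ : ↥(Set.Ici Q)) = height P₁ :=
    height_Ici_comap π Ideal.Quotient.mk_surjective Q Ideal.mk_ker P₁ hge
  show _ = ((P₁.asIdeal.height : ℕ∞) : WithBot ℕ∞)
  rw [P₁.height_eq_orderHeight, ← h1, ← VarDim.coheight_eq_ringKrullDim_quotient, coheight_eq_krullDim_Ici,
    height_eq_krullDim_Iic]
  let g : ↥(Set.Ici x) → ↥(Set.Iic (⟨PrimeSpectrum.comap π P₁, hge⟩ : ↥(Set.Ici Q))) := fun y =>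
    ⟨⟨PrimeSpectrum.comap φ y.1, Ideal.comap_mono y.2⟩,
      show PrimeSpectrum.comap φ y.1 ≤ PrimeSpectrum.comap π P₁ from hcP.symm ▸ comap_le_cp y.1⟩
  have hmem : ∀ b : ↥(Set.Iic (⟨PrimeSpectrum.comap π P₁, hge⟩ : ↥(Set.Ici Q))), b.1.1 ∈ Set.range (PrimeSpectrum.comap φ) :=
    fun b => hφ.mem_range _ ((ker_le_comap x).trans b.1.2) (hcP ▸ (show b.1.1 ≤ PrimeSpectrum.comap π P₁ from b.2))
  refine Order.krullDim_eq_of_orderIso ⟨Equiv.ofBijective g ⟨fun y y' h => ?_, fun b => ?_⟩, ?_⟩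
  · have he : PrimeSpectrum.comap φ y.1 = PrimeSpectrum.comap φ y'.1 :=
      congrArg (fun z : ↥(Set.Iic (⟨PrimeSpectrum.comap π P₁, hge⟩ : ↥(Set.Ici Q))) => z.1.1) h
    exact Subtype.ext (le_antisymm ((hφ.comap_le_iff _ _).1 he.le) ((hφ.comap_le_iff _ _).1 he.ge))
  · obtain ⟨y, hy⟩ := hmem b
    exact ⟨⟨y, (hφ.comap_le_iff _ _).1 (hy.symm ▸ b.1.2)⟩, Subtype.ext (Subtype.ext hy)⟩
  · intro y y'
    exact hφ.comap_le_iff _ _

omit [IsLocalRing X] in
/-- The universal property of a ring of fractions of a quotient. -/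
theorem IsFracs.exists_lift (hφ : IsFracs φ) {Z : Type u} [CommRing Z] (g : R →+* Z)
    (hk : RingHom.ker φ ≤ RingHom.ker g) (hu : ∀ s, IsUnit (φ s) → IsUnit (g s)) :
    ∃ h : X →+* Z, h.comp φ = g := by
  letI : Algebra (R ⧸ RingHom.ker φ) X := φ.kerLift.toAlgebra
  let M : Submonoid (R ⧸ RingHom.ker φ) := (IsUnit.submonoid X).comap φ.kerLift
  haveI : IsLocalization M X :=
    { map_units := fun y => y.2
      surj := fun x => by
        obtain ⟨r, s, hs, he⟩ := hφ x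
        exact ⟨(Ideal.Quotient.mk _ r, ⟨Ideal.Quotient.mk _ s, hs⟩), he⟩
      exists_of_eq := fun {a b} hab => ⟨1, by rw [φ.kerLift_injective hab]⟩ }
  let g' : R ⧸ RingHom.ker φ →+* Z := Ideal.Quotient.lift _ g fun a ha => hk ha
  have hg' : ∀ y : M, IsUnit (g' y) := by
    rintro ⟨y, hy⟩
    obtain ⟨s, rfl⟩ := Ideal.Quotient.mk_surjective y
    exact hu s hy
  exact ⟨IsLocalization.lift hg', RingHom.ext fun r => IsLocalization.lift_eq hg' (Ideal.Quotient.mk _ r)⟩

theorem IsFracs.isNoetherianRing (hφ : IsFracs φ) [IsNoetherianRing R] : IsNoetherianRing X := by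
  rw [isNoetherianRing_iff_ideal_fg]
  intro J
  suffices h : J = (J.comap φ).map φ by
    rw [h]
    exact Ideal.FG.map (IsNoetherian.noetherian (J.comap φ)) φ
  refine le_antisymm (fun z hz => ?_) Ideal.map_comap_le
  obtain ⟨r, s, hs, he⟩ := hφ z
  refine (Ideal.mul_unit_mem_iff_mem _ hs).1 (he ▸ Ideal.mem_map_of_mem φ ?_)
  exact Ideal.mem_comap.2 (he ▸ J.mul_mem_right _ hz)

end Groth.Agent.FormCat
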