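import Groth.Agent.LC.CompleteCatenary
import Groth.Agent.DimFormula.Scheme
import Groth.Prelude.Def_EGA4b
import Mathlib.RingTheory.RegularLocalRing.Polynomial

/-!
# The dimension function on a polynomial ring over a complete local ring
-/

set_option autoImplicit false
set_option linter.style.haveILetI false

open IsLocalRing

namespace Groth.Agent.FormCat

universe u

open DimFormula

/-- The dimension of `A/p`, as a natural number. -/
noncomputable def qd (A : Type u) [CommRing A] (p : Ideal A) : ℕ :=
  ((ringKrullDim (A ⧸ p)).unbotD 0).toNat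

/-- Dimension of the closure of the image plus the dimension in the fibre. -/
noncomputable def dlt (A : Type u) [CommRing A] {T : Type u} [CommRing T] [Algebra A T]
    (P : Ideal T) [P.IsPrime] : ℕ :=
  qd A (P.under A) + fd A P

theorem coe_qd (A : Type u) [CommRing A] [IsNoetherianRing A] [IsLocalRing A] (p : Ideal A) (hp : p ≠ ⊤) :
    ringKrullDim (A ⧸ p) = (qd A p : WithBot ℕ∞) := by
  obtain ⟨a, ha⟩ := LC.exists_dim_quot (I := p) hp
  rw [qd, ha]
  rfl

/-- In a polynomial ring over a complete local ring, `ht(P/Q)` is the drop of the dimension function. -/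
theorem dlt_add_height (C : Type u) [CommRing C] [IsLocalRing C] [IsNoetherianRing C]
    [IsAdicComplete (maximalIdeal C) C] {m : ℕ} (Q P : Ideal (MvPolynomial (Fin m) C)) [Q.IsPrime] [P.IsPrime]
    (h : Q ≤ P) : (dlt C P : ℕ∞) + (P.map (Ideal.Quotient.mk Q)).height = dlt C Q := by
  obtain ⟨Λ, _, n, f, hΛ, hf⟩ := CohenLib.exists_surjective C (IsNoetherian.noetherian _)
  obtain ⟨_, hreg, -⟩ := CohenLib.isRegular_complete_mvPowerSeries hΛ n
  let S := MvPowerSeries (Fin n) Λ
  haveI := RegLoc6.isRegularRing_of_isRegularLocalRing S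
  haveI := LC.gorenstein_of_isRegularLocalRing (R := S)
  haveI := LC.isCohenMacaulayLocalRing_of_gorenstein (R := S)
  letI : Algebra S C := f.toAlgebra
  have hC : Function.Surjective (algebraMap S C) := hf
  haveI : Algebra.FiniteType S C := Algebra.FiniteType.of_surjective (Algebra.ofId S C) hC
  let U := MvPolynomial (Fin m) S
  haveI : Algebra.FiniteType S (MvPolynomial (Fin m) C) :=
    Algebra.FiniteType.trans (S := C) inferInstance inferInstance
  let π : U →ₐ[S] MvPolynomial (Fin m) C := MvPolynomial.mapAlgHom (Algebra.ofId S C)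
  have hπ : Function.Surjective π := MvPolynomial.map_surjective _ hC
  letI : Algebra U (MvPolynomial (Fin m) C) := π.toRingHom.toAlgebra
  obtain ⟨N, -, -, hN, -⟩ := CohenLib.exists_fin_sop S
  have key : ∀ (R : Ideal (MvPolynomial (Fin m) C)) [R.IsPrime], ∃ a : ℕ,
      (R.comap π.toRingHom).height = a ∧ dlt C R + a = N + m := by
    intro R _
    let R₀ : PrimeSpectrum U := ⟨R.comap π.toRingHom, inferInstance⟩
    let r := R.under C
    let r₀ := R₀.asIdeal.under S
    have hr₀ : r₀ = r.comap (algebraMap S C) := by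
      ext s
      simp only [r₀, R₀, r, Ideal.mem_comap, AlgHom.toRingHom_eq_coe, RingHom.coe_coe, AlgHom.commutes,
        ← IsScalarTower.algebraMap_apply]
    have h1 := height_add_fd_mvPolynomial S R₀
    rw [← R₀.height_eq_orderHeight, ← PrimeSpectrum.height_eq_orderHeight] at h1
    change (R.comap π.toRingHom).height + (fd S (R.comap π.toRingHom) : ℕ∞) = r₀.height + m at h1
    rw [fd_comap_of_surjective S π hπ R, ← fd_base_quotient hC R] at h1
    obtain ⟨a, ha⟩ := ENat.ne_top_iff_exists.1 (Ideal.height_ne_top (I := R.comap π.toRingHom)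
      (Ideal.IsPrime.ne_top inferInstance))
    obtain ⟨b, hb⟩ := ENat.ne_top_iff_exists.1 (Ideal.height_ne_top (I := r₀) (Ideal.IsPrime.ne_top inferInstance))
    rw [← ha, ← hb] at h1
    have h1' : a + fd C R = b + m := by exact_mod_cast h1
    have h2 := LC.height_add_ringKrullDim_quotient r₀ (Ideal.IsPrime.ne_top inferInstance)
    rw [← hb, hr₀, LC.ringKrullDim_quotient_comap (S := S) hC r, coe_qd C r (Ideal.IsPrime.ne_top inferInstance),
      hN] at h2
    have h2' : qd C r + b = N := by exact_mod_cast h2
    exact ⟨a, ha.symm, by show qd C r + fd C R + a = N + m; omega⟩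
  have h3 := LC.height_add_height_quotient_eq (Q.comap π.toRingHom) (P.comap π.toRingHom) (Ideal.comap_mono h)
  have h4 := LC.height_map_mk_comap (S := U) (A := MvPolynomial (Fin m) C) (hπ := hπ) Q P
  rw [show algebraMap U (MvPolynomial (Fin m) C) = π.toRingHom from rfl] at h4
  rw [h4] at h3
  obtain ⟨a, ha, ha'⟩ := key P
  obtain ⟨b, hb, hb'⟩ := key Q
  obtain ⟨t, ht⟩ := ENat.ne_top_iff_exists.1 (show (P.map (Ideal.Quotient.mk Q)).height ≠ ⊤ by
    intro e
    rw [e, ha, add_top] at h3
    exact ENat.top_ne_natCast a h3)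
  rw [ha, hb, ← ht] at h3
  have h3' : b + t = a := by exact_mod_cast h3
  rw [← ht]
  exact_mod_cast (by omega : dlt C P + t = dlt C Q)

end Groth.Agent.FormCat
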